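import Cfsg.Agent.Lib.PLocal.QuadraticPlane
import Cfsg.Agent.Lib.Transfer.Fusion

/-!
The torus element of an irreducible quadratic pair: it normalises the Sylow subgroup, is a scalar
on the fixed space of the first generator and some power of it is `-1`.
-/

set_option autoImplicit false
set_option linter.style.haveILetI false

namespace CfsgLib.FpFailure

open Matrix CfsgLib.PLocal.Plane
open CfsgLib.Classical (uSL lSL uSL_coe lSL_coe)
open CfsgLib.OddOrder.SL2

variable {p : ℕ} [Fact p.Prime]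

/-- An element of the diagonal of `SL₂(p)`. -/
def torus (a : (ZMod p)ˣ) : Matrix.SpecialLinearGroup (Fin 2) (ZMod p) :=
  ⟨!![(a : ZMod p), 0; 0, (↑a⁻¹ : ZMod p)], by rw [Matrix.det_fin_two_of, mul_zero, sub_zero, Units.mul_inv]⟩

theorem torus_coe (a : (ZMod p)ˣ) :
    (torus a).1 = !![(a : ZMod p), 0; 0, (↑a⁻¹ : ZMod p)] := rfl

theorem torus_00 (a : (ZMod p)ˣ) : (torus a).1 0 0 = (a : ZMod p) := rfl
theorem torus_01 (a : (ZMod p)ˣ) : (torus a).1 0 1 = 0 := rfl
theorem torus_10 (a : (ZMod p)ˣ) : (torus a).1 1 0 = 0 := rfl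
theorem torus_11 (a : (ZMod p)ˣ) : (torus a).1 1 1 = (↑a⁻¹ : ZMod p) := rfl

set_option maxHeartbeats 1600000 in
theorem exists_torus {X : Type*} [Group X] [Finite X] {W : Type*} [AddCommGroup W]
    [Module (ZMod p) W] [Finite W] [Nontrivial W] (hp : p ≠ 2)
    (ρ : X →* Module.End (ZMod p) W) {a b : X} (hgen : Subgroup.closure ({a, b} : Set X) = ⊤)
    (ha : (ρ a - 1) * (ρ a - 1) = 0) (hb : (ρ b - 1) * (ρ b - 1) = 0)
    (hirr : ∀ U : Submodule (ZMod p) W, (∀ h, U ≤ U.comap (ρ h)) → U = ⊥ ∨ U = ⊤)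
    (hne : ∃ h, ρ h ≠ 1) (Q : Sylow p X) (haQ : a ∈ (Q : Subgroup X)) (u : (ZMod p)ˣ)
    {k : ℕ} (hk : u ^ k = -1) :
    ∃ h ∈ Subgroup.normalizer ((Q : Subgroup X) : Set X),
      (∀ w, ρ a w = w → ρ h w = (u : ZMod p) • w) ∧ ρ (h ^ k) = -1 ∧
      ∃ v, ρ a v ≠ v ∧ ρ h v = (↑u⁻¹ : ZMod p) • v ∧
        ρ h (ρ a v - v) = (u : ZMod p) • (ρ a v - v) := by
  classical
  obtain ⟨h0, hh0⟩ := hne
  set A := ρ a - 1 with hA
  set B := ρ b - 1 with hB
  set c := A * B + B * A with hc
  have hAA : A * A = 0 := ha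
  have hBB : B * B = 0 := hb
  -- `c` commutes with the image
  have hcA : Commute c A := by
    show (A * B + B * A) * A = A * (A * B + B * A)
    rw [add_mul, mul_add, mul_assoc B A A, hAA, mul_zero, ← mul_assoc A A B, hAA, zero_mul,
      add_zero, zero_add, mul_assoc]
  have hcB : Commute c B := by
    show (A * B + B * A) * B = B * (A * B + B * A)
    rw [add_mul, mul_add, mul_assoc A B B, hBB, mul_zero, ← mul_assoc B B A, hBB, zero_mul,
      add_zero, zero_add, mul_assoc]
  have hca : Commute c (ρ a) := by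
    have := hcA.add_right (Commute.one_right c)
    rwa [hA, sub_add_cancel] at this
  have hcb : Commute c (ρ b) := by
    have := hcB.add_right (Commute.one_right c)
    rwa [hB, sub_add_cancel] at this
  set K : Subalgebra (ZMod p) (Module.End (ZMod p) W) := Algebra.adjoin (ZMod p) {c} with hK
  have hcK : c ∈ K := Algebra.self_mem_adjoin_singleton _ c
  have hcomm : ∀ h : X, ∀ x ∈ K, Commute x (ρ h) := by
    intro h x hx
    have hch : Commute c (ρ h) := by
      have hh : h ∈ Subgroup.closure ({a, b} : Set X) := hgen ▸ Subgroup.mem_top h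
      induction hh using Subgroup.closure_induction with
      | mem z hz => rcases hz with rfl | rfl <;> assumption
      | one => rw [map_one]; exact Commute.one_right c
      | mul g h _ _ hg hh => rw [map_mul]; exact hg.mul_right hh
      | inv g _ hg =>
        show c * ρ g⁻¹ = ρ g⁻¹ * c
        calc c * ρ g⁻¹ = ρ (g⁻¹ * g) * c * ρ g⁻¹ := by rw [inv_mul_cancel, map_one, one_mul]
          _ = ρ g⁻¹ * (c * ρ g) * ρ g⁻¹ := by rw [map_mul, mul_assoc (ρ g⁻¹), hg.eq]
          _ = ρ g⁻¹ * c * ρ (g * g⁻¹) := by rw [map_mul]; simp [mul_assoc]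
          _ = _ := by rw [mul_inv_cancel, map_one, mul_one]
    exact (Algebra.commute_of_mem_adjoin_singleton_of_commute hx hch.symm).symm
  have hinj : ∀ x ∈ K, x ≠ 0 → ∀ v, x v = 0 → v = 0 := by
    intro x hx hx0 v hv
    have hbot : LinearMap.ker x = ⊥ := by
      refine (hirr _ fun h u hu => ?_).resolve_right fun ht =>
        hx0 (LinearMap.ker_eq_top.1 ht)
      rw [Submodule.mem_comap, LinearMap.mem_ker, ← Module.End.mul_apply, (hcomm h x hx).eq,
        Module.End.mul_apply, LinearMap.mem_ker.1 hu, map_zero]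
    exact (Submodule.mem_bot _).1 (hbot ▸ LinearMap.mem_ker.2 hv)
  haveI : Finite (Module.End (ZMod p) W) :=
    Finite.of_injective (fun f => (f : W → W)) DFunLike.coe_injective
  haveI : Nontrivial K := ⟨0, 1, fun h => by
    obtain ⟨v, hv⟩ := exists_ne (0 : W)
    exact hv (LinearMap.congr_fun (congrArg Subtype.val h) v).symm⟩
  letI : CommRing K :=
    { (inferInstance : Ring K) with
      mul_comm := fun x y => Subtype.ext <|
        (Algebra.commute_of_mem_adjoin_singleton_of_commute y.2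
          (Algebra.commute_of_mem_adjoin_self x.2).symm).eq }
  haveI : NoZeroDivisors K := ⟨fun {x y} h => or_iff_not_imp_left.2 fun hx => Subtype.ext <|
    LinearMap.ext fun v => hinj x.1 x.2 (fun h0 => hx (Subtype.ext h0)) (y.1 v)
      (LinearMap.congr_fun (congrArg Subtype.val h) v)⟩
  haveI : IsDomain K := NoZeroDivisors.to_isDomain K
  letI : Field K := (Finite.isField_of_domain K).toField
  haveI : CharP K p := charP_of_injective_ringHom (algebraMap (ZMod p) K).injective p
  let ρK : X →* Module.End K W :=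
    { toFun := fun h =>
        { toFun := ρ h
          map_add' := map_add (ρ h)
          map_smul' := fun x v => by
            show ρ h (x.1 v) = x.1 (ρ h v)
            rw [← Module.End.mul_apply, ← Module.End.mul_apply, (hcomm h x.1 x.2).eq] }
      map_one' := LinearMap.ext fun v => by simp
      map_mul' := fun g h => LinearMap.ext fun v => by simp }
  obtain ⟨w, hw⟩ := exists_ne (0 : W)
  have hρ : ∀ (h : X) (v : W), (ρK h - 1) v = (ρ h - 1) v := fun h v => rfl
  rcases CfsgLib.OddOrder.fixed_or_plane (ρK a - 1) (ρK b - 1)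
    (LinearMap.ext fun v => LinearMap.congr_fun hAA v)
    (LinearMap.ext fun v => LinearMap.congr_fun hBB v) hw (l := (⟨c, hcK⟩ : K)) rfl with
    ⟨v, hv, hva, hvb⟩ | ⟨hl0, φ, hφ, hX, hY⟩
  · exact absurd (eq_one_of_fixed ρ hgen hirr hv hva hvb h0) hh0
  let L : Subgroup (Matrix.SpecialLinearGroup (Fin 2) K) :=
    { carrier := {M | ∃ h : X, ∀ v, ρK h (φ v) = φ (M.1.mulVec v)}
      one_mem' := ⟨1, fun v => by simp⟩
      mul_mem' := by
        rintro M N ⟨g, hg⟩ ⟨h, hh⟩
        refine ⟨g * h, fun v => ?_⟩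
        rw [map_mul, Module.End.mul_apply, hh, hg, Matrix.SpecialLinearGroup.coe_mul,
          Matrix.mulVec_mulVec]
      inv_mem' := by
        rintro M ⟨g, hg⟩
        refine ⟨g⁻¹, fun v => ?_⟩
        have h1 : φ v = φ (M.1.mulVec ((M⁻¹).1.mulVec v)) := by
          rw [Matrix.mulVec_mulVec, ← Matrix.SpecialLinearGroup.coe_mul, mul_inv_cancel,
            Matrix.SpecialLinearGroup.coe_one, Matrix.one_mulVec]
        rw [h1, ← hg, ← Module.End.mul_apply, ← map_mul, inv_mul_cancel, map_one,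
          Module.End.one_apply] }
  obtain ⟨x, hx⟩ := exists_sl2_std_finite (p := p) hp L
    ⟨a, fun v => by simpa using hX v⟩ hl0 ⟨b, fun v => by simpa using hY v⟩
  let cast : ZMod p →+* K := ZMod.castHom (dvd_refl p) K
  -- every element acts through a matrix
  have hall : ∀ h : X, ∃ M : Matrix.SpecialLinearGroup (Fin 2) K,
      ∀ v, ρ h (φ v) = φ (M.1.mulVec v) := by
    intro h
    have hh : h ∈ Subgroup.closure ({a, b} : Set X) := hgen ▸ Subgroup.mem_top h
    induction hh using Subgroup.closure_induction with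
    | mem z hz =>
      rcases hz with rfl | rfl
      · exact ⟨uSL 1, fun v => by simpa [ρK] using hX v⟩
      · exact ⟨_, fun v => by simpa [ρK] using hY v⟩
    | one => exact ⟨1, fun v => by simp⟩
    | mul g h _ _ hg hh =>
      obtain ⟨M, hM⟩ := hg
      obtain ⟨N, hN⟩ := hh
      exact ⟨M * N, fun v => by rw [map_mul, Module.End.mul_apply, hN, hM,
        Matrix.SpecialLinearGroup.coe_mul, Matrix.mulVec_mulVec]⟩
    | inv g _ hg =>
      obtain ⟨M, hM⟩ := hg
      refine ⟨M⁻¹, fun v => ?_⟩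
      have h1 : φ v = φ (M.1.mulVec ((M⁻¹).1.mulVec v)) := by
        rw [Matrix.mulVec_mulVec, ← Matrix.SpecialLinearGroup.coe_mul, mul_inv_cancel,
          Matrix.SpecialLinearGroup.coe_one, Matrix.one_mulVec]
      rw [h1, ← hM, ← Module.End.mul_apply, ← map_mul, inv_mul_cancel, map_one,
        Module.End.one_apply]
  choose M hM using hall
  -- the two-dimensional image is everything
  have hsurj : ∀ w : W, ∃ v, φ v = w := by
    let U : Submodule (ZMod p) W := (AddSubgroup.toZModSubmodule p) φ.toAddMonoidHom.range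
    have hU : ∀ w, w ∈ U ↔ ∃ v, φ v = w := fun w => by simp [U]
    rcases hirr U (fun h w hw => by
      rw [Submodule.mem_comap]
      obtain ⟨v, rfl⟩ := (hU _).1 hw
      exact (hU _).2 ⟨_, (hM h v).symm⟩) with h0 | h0
    · exfalso
      have hm : φ ![1, 0] ∈ U := (hU _).2 ⟨_, rfl⟩
      rw [h0, Submodule.mem_bot, ← map_zero φ] at hm
      simpa using congrFun (hφ hm) 0
    · exact fun w => (hU _).1 (h0 ▸ Submodule.mem_top)
  have hMu : ∀ (h : X) (N : Matrix.SpecialLinearGroup (Fin 2) K),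
      (∀ v, ρ h (φ v) = φ (N.1.mulVec v)) → M h = N := by
    intro h N hN
    apply Subtype.ext
    apply Matrix.toLin'.injective
    refine LinearMap.ext fun v => hφ ?_
    rw [Matrix.toLin'_apply, Matrix.toLin'_apply, ← hM, hN]
  let Mh : X →* Matrix.SpecialLinearGroup (Fin 2) K := MonoidHom.mk' M fun g h => hMu _ _ fun v => by
    rw [map_mul, Module.End.mul_apply, hM, hM, Matrix.SpecialLinearGroup.coe_mul,
      Matrix.mulVec_mulVec]
  have hMa : M a = uSL 1 := hMu _ _ fun v => by simpa [ρK] using hX v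
  -- the torus element
  obtain ⟨h0, hh0⟩ := hx (torus u)
  set T0 := Matrix.SpecialLinearGroup.map (n := Fin 2) cast (torus u) with hT0
  have hM0 : M h0 = uSL x * T0 * (uSL x)⁻¹ := hMu _ _ hh0
  obtain ⟨c0, hc0⟩ : ∃ c : K, c = cast (u : ZMod p) := ⟨_, rfl⟩
  obtain ⟨c1, hc1⟩ : ∃ c : K, c = cast (↑u⁻¹ : ZMod p) := ⟨_, rfl⟩
  have hT00 : T0.1 0 0 = c0 := (congrArg cast (torus_00 u)).trans hc0.symm
  have hT01 : T0.1 0 1 = 0 := (congrArg cast (torus_01 u)).trans (map_zero cast)
  have hT10 : T0.1 1 0 = 0 := (congrArg cast (torus_10 u)).trans (map_zero cast)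
  have hT11 : T0.1 1 1 = c1 := (congrArg cast (torus_11 u)).trans hc1.symm
  have hcsmul : ∀ (c : ZMod p) (w : W), (cast c) • w = c • w := fun c w => by
    obtain ⟨n, rfl⟩ := ZMod.natCast_zmod_surjective c
    rw [map_natCast, Nat.cast_smul_eq_nsmul, Nat.cast_smul_eq_nsmul]
  have hfixed : ∀ v : Fin 2 → K, (uSL (1 : K)).1.mulVec v = v → v 1 = 0 := fun v hv => by
    have := congrFun hv 0
    simpa [uSL_coe, Matrix.mulVec, dotProduct, Fin.sum_univ_two] using this
  -- the Sylow image is unipotent upper triangular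
  have hQu : ∀ q ∈ (Q : Subgroup X), ∃ f : K, M q = uSL f := by
    let φ0 : ↥(Q : Subgroup X) →* Module.End (ZMod p) W := ρ.comp (Q : Subgroup X).subtype
    letI : MulAction ↥(Q : Subgroup X) W := MulAction.compHom W φ0
    have hdvd : p ∣ Nat.card W := by
      have hW : (IsPGroup p (Multiplicative W)) := fun w => ⟨1, by
        rw [pow_one]
        apply Multiplicative.toAdd.injective
        rw [toAdd_pow, toAdd_one]
        exact ZModModule.char_nsmul_eq_zero p w.toAdd⟩
      obtain ⟨n, hn⟩ := IsPGroup.iff_card.1 hW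
      have hcard : Nat.card W = p ^ n := (Nat.card_congr Multiplicative.ofAdd).trans hn
      have h1 : 1 < Nat.card W := Finite.one_lt_card
      rcases Nat.eq_zero_or_pos n with rfl | hn0
      · simp [hcard] at h1
      · exact hcard ▸ dvd_pow_self p hn0.ne'
    obtain ⟨w0, hw0, hw0ne⟩ := (Q.isPGroup').exists_fixed_point_of_prime_dvd_card_of_fixed_point
      W hdvd (a := 0) (fun q => map_zero (φ0 q))
    obtain ⟨v0, rfl⟩ := hsurj w0
    have hfixv : ∀ q ∈ (Q : Subgroup X), (M q).1.mulVec v0 = v0 := fun q hq =>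
      hφ (by rw [← hM]; exact hw0 ⟨q, hq⟩)
    have hv1 : v0 1 = 0 := hfixed v0 (hMa ▸ hfixv a haQ)
    have hv0 : v0 0 ≠ 0 := fun h0 => hw0ne (by
      rw [show v0 = 0 from funext fun i => by fin_cases i <;> assumption, map_zero])
    intro q hq
    have e0 := congrFun (hfixv q hq) 0
    have e1 := congrFun (hfixv q hq) 1
    simp only [Matrix.mulVec, dotProduct, Fin.sum_univ_two, hv1, mul_zero, add_zero] at e0 e1
    have q00 : (M q).1 0 0 = 1 := mul_right_cancel₀ hv0 (e0.trans (one_mul _).symm)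
    have q10 : (M q).1 1 0 = 0 := (mul_eq_zero.1 e1).resolve_right hv0
    have q11 : (M q).1 1 1 = 1 := by
      have hd := (M q).2
      rw [Matrix.det_fin_two, q00, q10, one_mul, mul_zero, sub_zero] at hd
      exact hd
    refine ⟨(M q).1 0 1, Subtype.ext ?_⟩
    refine Matrix.ext fun i j => ?_
    fin_cases i <;> fin_cases j <;> simp [uSL_coe, q00, q10, q11]
  have huc : ∀ f g : K, uSL f * uSL g = uSL (f + g) := fun f g => by
    apply Subtype.ext
    refine Matrix.ext fun i j => ?_
    fin_cases i <;> fin_cases j <;> simp [uSL_coe, Matrix.mul_apply, Fin.sum_univ_two, add_comm]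
  have huT : ∀ f : K, T0 * uSL f = uSL (cast ((u : ZMod p) * u) * f) * T0 := fun f => by
    have hu : c0 * c1 = 1 := by rw [hc0, hc1, ← map_mul, Units.mul_inv, map_one]
    rw [map_mul, ← hc0]
    apply Subtype.ext
    refine Matrix.ext fun i j => ?_
    fin_cases i <;> fin_cases j <;>
      simp [uSL_coe, Matrix.mul_apply, Fin.sum_univ_two, hT00, hT01, hT10, hT11]
    linear_combination (-(c0 * f)) * hu
  have hupow : ∀ (n : ℕ) (f : K), uSL f ^ n = uSL (n • f) := fun n f => by
    induction n with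
    | zero =>
      apply Subtype.ext
      refine Matrix.ext fun i j => ?_
      fin_cases i <;> fin_cases j <;> simp [uSL_coe]
    | succ n ih => rw [pow_succ, ih, huc, succ_nsmul]
  have hnorm : ∀ q ∈ (Q : Subgroup X), ∃ q' ∈ (Q : Subgroup X), M (h0 * q * h0⁻¹) = M q' := by
    intro q hq
    obtain ⟨f, hf⟩ := hQu q hq
    refine ⟨q ^ ((u : ZMod p) * u).val, pow_mem hq _, ?_⟩
    show Mh (h0 * q * h0⁻¹) = Mh (q ^ ((u : ZMod p) * u).val)
    rw [map_mul, map_mul, map_inv, map_pow]
    show M h0 * M q * (M h0)⁻¹ = M q ^ _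
    have e : ((u : ZMod p) * u).val • f = cast ((u : ZMod p) * u) * f := by
      rw [nsmul_eq_mul, ← map_natCast cast, ZMod.natCast_zmod_val]
    rw [hf, hupow, e, mul_inv_eq_iff_eq_mul, hM0]
    calc uSL x * T0 * (uSL x)⁻¹ * uSL f = uSL x * T0 * uSL f * (uSL x)⁻¹ := by
          rw [mul_assoc _ (uSL x)⁻¹, show (uSL x)⁻¹ * uSL f = uSL f * (uSL x)⁻¹ from
            (Commute.inv_left (show uSL x * uSL f = uSL f * uSL x by rw [huc, huc, add_comm])).eq]
          group
      _ = uSL x * uSL (cast ((u : ZMod p) * u) * f) * T0 * (uSL x)⁻¹ := by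
          rw [mul_assoc (uSL x), huT, ← mul_assoc]
      _ = _ := by rw [huc, add_comm, ← huc]; group
  obtain ⟨h, hhN, hMh⟩ : ∃ h ∈ Subgroup.normalizer ((Q : Subgroup X) : Set X), M h = M h0 := by
    set P' := (Q : Subgroup X) ⊔ Mh.ker with hP'
    have hle : ((h0 • Q : Sylow p X) : Subgroup X) ≤ P' := by
      intro z hz
      have hz' : h0⁻¹ * z * h0 ∈ (Q : Subgroup X) :=
        CfsgLib.Transfer.mem_coe_smul_sylow_iff.1 hz
      obtain ⟨q', hq', hqe⟩ := hnorm _ hz'
      rw [show h0 * (h0⁻¹ * z * h0) * h0⁻¹ = z by group] at hqe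
      have hker : q'⁻¹ * z ∈ Mh.ker := by
        rw [MonoidHom.mem_ker, map_mul, map_inv]
        show (M q')⁻¹ * M z = 1
        rw [hqe, inv_mul_cancel]
      rw [show z = q' * (q'⁻¹ * z) by group]
      exact mul_mem (le_sup_left (b := Mh.ker) hq') (le_sup_right (a := (Q : Subgroup X)) hker)
    obtain ⟨g, hg⟩ := MulAction.exists_smul_eq P' ((h0 • Q : Sylow p X).subtype hle)
      (Q.subtype (le_sup_left : (Q : Subgroup X) ≤ P'))
    have hg' : (g : X) • (h0 • Q) = Q :=
      Sylow.subtype_injective ((Sylow.smul_subtype hle g).symm.trans hg)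
    obtain ⟨q, hq, k0, hk0, hqk⟩ := Subgroup.mem_sup_of_normal_right.1 g.2
    refine ⟨k0 * h0, Sylow.smul_eq_iff_mem_normalizer.1 ?_, ?_⟩
    · have h1 : (k0 * h0) • Q = q⁻¹ • Q := by
        rw [eq_inv_smul_iff, smul_smul, ← mul_assoc, hqk, ← smul_smul, hg']
      rw [h1]
      exact Sylow.smul_eq_iff_mem_normalizer.2 (Subgroup.le_normalizer (inv_mem hq))
    · show Mh (k0 * h0) = M h0
      rw [map_mul, MonoidHom.mem_ker.1 hk0, one_mul]
      rfl
  have hh : ∀ v : Fin 2 → K, ρ h (φ v) = φ ((M h0).1.mulVec v) := fun v => by rw [← hMh, hM]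
  have ha' : ∀ v : Fin 2 → K, ρ a (φ v) = φ ((uSL (1 : K)).1.mulVec v) := fun v => by
    rw [← hMa, hM]
  have hxi : (uSL x)⁻¹ = uSL (-x) := by
    rw [inv_eq_iff_mul_eq_one, huc, add_neg_cancel]
    apply Subtype.ext
    refine Matrix.ext fun i j => ?_
    fin_cases i <;> fin_cases j <;> simp [uSL_coe]
  have hM0' : (M h0).1 = !![c0, x * c1 - c0 * x; 0, c1] := by
    rw [hM0, hxi, Matrix.SpecialLinearGroup.coe_mul, Matrix.SpecialLinearGroup.coe_mul]
    refine Matrix.ext fun i j => ?_
    fin_cases i <;> fin_cases j <;>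
      simp [uSL_coe, Matrix.mul_apply, Matrix.vecMul, dotProduct, Fin.sum_univ_two, hT00, hT01, hT10, hT11] <;> (try ring)
  have hsm : ∀ (c : ZMod p) (v : Fin 2 → K), φ (cast c • v) = c • φ v := fun c v => by
    rw [map_smul, hcsmul]
  have he1 : φ ![1, 0] ≠ 0 := fun h1 => by
    rw [← map_zero φ] at h1
    simpa using congrFun (hφ h1) 0
  refine ⟨h, hhN, fun w hw => ?_, ?_, φ ![x, 1], ?_, ?_, ?_⟩
  · obtain ⟨v, rfl⟩ := hsurj w
    rw [ha'] at hw
    have hv1 : v 1 = 0 := hfixed v (hφ hw)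
    rw [hh, ← hsm]
    congr 1
    rw [hM0']
    funext i
    fin_cases i <;> simp [Matrix.mulVec, dotProduct, Fin.sum_univ_two, ← hc0, hv1]
  · have hpow : ∀ n : ℕ, torus u ^ n = torus (u ^ n) := fun n => by
      induction n with
      | zero =>
        apply Subtype.ext
        refine Matrix.ext fun i j => ?_
        fin_cases i <;> fin_cases j <;>
          simp [torus_coe, -Units.val_inv_eq_inv_val]
      | succ n ih =>
        rw [pow_succ, ih, pow_succ u]
        apply Subtype.ext
        rw [Matrix.SpecialLinearGroup.coe_mul, torus_coe, torus_coe, torus_coe, Matrix.mul_fin_two]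
        rw [mul_inv (u ^ n) u, Units.val_mul, Units.val_mul]
        simp only [mul_zero, add_zero, zero_mul, zero_add]
    have hTk : (T0 ^ k).1 = -1 := by
      rw [hT0, ← map_pow, hpow, hk]
      refine Matrix.ext fun i j => ?_
      fin_cases i <;> fin_cases j <;>
        simp [Matrix.SpecialLinearGroup.map_apply_coe, torus_coe, -Units.val_inv_eq_inv_val]
    have hMk : (M (h ^ k)).1 = -1 := by
      show (Mh (h ^ k)).1 = -1
      rw [map_pow]
      show (M h ^ k).1 = -1
      rw [hMh, hM0, conj_pow, Matrix.SpecialLinearGroup.coe_mul,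
        Matrix.SpecialLinearGroup.coe_mul, hTk, mul_neg, mul_one, neg_mul, ← Matrix.SpecialLinearGroup.coe_mul,
        mul_inv_cancel, Matrix.SpecialLinearGroup.coe_one]
    refine LinearMap.ext fun w => ?_
    obtain ⟨v, rfl⟩ := hsurj w
    rw [hM, hMk, Matrix.neg_mulVec, Matrix.one_mulVec, map_neg]
    rfl
  · intro hfix
    rw [ha'] at hfix
    simpa [uSL_coe, Matrix.mulVec, dotProduct, Fin.sum_univ_two] using congrFun (hφ hfix) 0
  · rw [hh, ← hsm]
    congr 1
    rw [hM0', ← hc1]
    funext i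
    fin_cases i <;> simp [Matrix.mulVec, dotProduct, Fin.sum_univ_two] <;> ring
  · have hd : ρ a (φ ![x, 1]) - φ ![x, 1] = φ ![1, 0] := by
      rw [ha', ← map_sub]
      congr 1
      funext i
      fin_cases i <;> simp [uSL_coe, Matrix.mulVec, dotProduct, Fin.sum_univ_two]
    rw [hd, hh, ← hsm]
    congr 1
    rw [hM0']
    funext i
    fin_cases i <;> simp [Matrix.mulVec, dotProduct, Fin.sum_univ_two, ← hc0]

end CfsgLib.FpFailure
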