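import Cfsg.Agent.Lib.PLocal.QdSection
import Cfsg.Agent.Lib.FpFailure.Pair

/-!
A plane with a torus and a unipotent element gives a section `F(p)`.
-/

set_option autoImplicit false
set_option linter.style.haveILetI false

namespace CfsgLib.FpFailure

open Subgroup Cfsg CfsgLib.PLocal
open scoped commutatorElement

variable {p : ℕ} [Fact p.Prime] {G : Type*} [Group G]

/-- A plane on which the triangular group acts gives `F(p)`. -/
theorem invHom_fOver_of_plane [Finite G] (hp : p ≠ 2) (ψ : (Fin 2 → ZMod p) → G)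
    (hψ : Function.Injective ψ) (hadd : ∀ u v, ψ (u + v) = ψ u * ψ v)
    (hg : ∀ g : Matrix.SpecialLinearGroup (Fin 2) (ZMod p), g.1 1 0 = 0 → ∃ h : G, ∀ v,
      h * ψ v * h⁻¹ = ψ (g.1.mulVec v)) : InvHom ↥(fOver (ZMod p)) G := by
  classical
  have hone : ψ 0 = 1 := by
    have := hadd 0 0
    rw [add_zero] at this
    exact mul_eq_left.1 this.symm
  let Ψ : Multiplicative (Fin 2 → ZMod p) →* G :=
    { toFun := fun v => ψ v.toAdd
      map_one' := hone
      map_mul' := fun u v => hadd _ _ }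
  set W := Ψ.range with hW
  let D : Subgroup G :=
    { carrier := {h | ∃ g : Matrix.SpecialLinearGroup (Fin 2) (ZMod p), g.1 1 0 = 0 ∧ ∀ v,
        h * ψ v * h⁻¹ = ψ (g.1.mulVec v)}
      one_mem' := ⟨1, by simp, fun v => by simp⟩
      mul_mem' := by
        rintro x y ⟨g, hg0, hx⟩ ⟨g', hg0', hy⟩
        refine ⟨g * g', by simp [Matrix.mul_apply, Fin.sum_univ_two, hg0, hg0'], fun v => ?_⟩
        rw [Matrix.SpecialLinearGroup.coe_mul, ← Matrix.mulVec_mulVec, ← hx, ← hy]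
        group
      inv_mem' := by
        rintro x ⟨g, hg0, hx⟩
        refine ⟨g⁻¹, by simp [Matrix.SpecialLinearGroup.coe_inv, Matrix.adjugate_fin_two, hg0],
          fun v => ?_⟩
        have h1 : ψ v = x * ψ ((g⁻¹).1.mulVec v) * x⁻¹ := by
          rw [hx, Matrix.mulVec_mulVec, ← Matrix.SpecialLinearGroup.coe_mul, mul_inv_cancel,
            Matrix.SpecialLinearGroup.coe_one, Matrix.one_mulVec]
        rw [h1]
        group }
  have hex : ∀ h : D, ∃ g : Matrix.SpecialLinearGroup (Fin 2) (ZMod p), g.1 1 0 = 0 ∧ ∀ v,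
      (h : G) * ψ v * (h : G)⁻¹ = ψ (g.1.mulVec v) := fun h => h.2
  choose π hπ0 hπ using hex
  have hπu : ∀ (h : D) (g : Matrix.SpecialLinearGroup (Fin 2) (ZMod p)),
      (∀ v, (h : G) * ψ v * (h : G)⁻¹ = ψ (g.1.mulVec v)) → π h = g := by
    intro h g hh
    apply Subtype.ext
    apply Matrix.toLin'.injective
    refine LinearMap.ext fun v => hψ ?_
    rw [Matrix.toLin'_apply, Matrix.toLin'_apply, ← hπ, hh]
  let P : D →* Matrix.SpecialLinearGroup (Fin 2) (ZMod p) := MonoidHom.mk' π fun x y =>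
    hπu _ _ fun v => by
      rw [Matrix.SpecialLinearGroup.coe_mul, ← Matrix.mulVec_mulVec, ← hπ, ← hπ, Subgroup.coe_mul]
      group
  have hPs : ∀ g : Matrix.SpecialLinearGroup (Fin 2) (ZMod p), g.1 1 0 = 0 → g ∈ P.range :=
    fun g hg0 => by
      obtain ⟨h, hh⟩ := hg g hg0
      exact ⟨⟨h, g, hg0, hh⟩, hπu _ _ hh⟩
  have hcommψ : ∀ u v, Commute (ψ u) (ψ v) := fun u v => by
    show ψ u * ψ v = ψ v * ψ u
    rw [← hadd, ← hadd, add_comm]
  have hψD : ∀ v, ψ v ∈ D := fun v => ⟨1, by simp, fun u => by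
    rw [Matrix.SpecialLinearGroup.coe_one, Matrix.one_mulVec, (hcommψ v u).eq, mul_inv_cancel_right]⟩
  have hPψ : ∀ v, P ⟨ψ v, hψD v⟩ = 1 := fun v => hπu _ _ fun u => by
    rw [Matrix.SpecialLinearGroup.coe_one, Matrix.one_mulVec]
    show ψ v * ψ u * (ψ v)⁻¹ = ψ u
    rw [(hcommψ v u).eq, mul_inv_cancel_right]
  -- an element of 2-power order acting as `-1`
  let negOne : Matrix.SpecialLinearGroup (Fin 2) (ZMod p) :=
    ⟨!![-1, 0; 0, -1], by simp [Matrix.det_fin_two]⟩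
  have hneg : ∀ g : Matrix.SpecialLinearGroup (Fin 2) (ZMod p), g * negOne * g⁻¹ = negOne := by
    intro g
    rw [mul_inv_eq_iff_eq_mul]
    apply Subtype.ext
    rw [Matrix.SpecialLinearGroup.coe_mul, Matrix.SpecialLinearGroup.coe_mul]
    ext i j
    fin_cases i <;> fin_cases j <;> simp [negOne, Matrix.mul_apply, Fin.sum_univ_two]
  have hneg2 : negOne * negOne = 1 := by
    apply Subtype.ext
    rw [Matrix.SpecialLinearGroup.coe_mul]
    ext i j
    fin_cases i <;> fin_cases j <;> simp [negOne, Matrix.mul_apply, Fin.sum_univ_two]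
  obtain ⟨t, ht⟩ := hPs negOne (by simp [negOne])
  obtain ⟨k, m, hm, hkm⟩ : ∃ k m, Odd m ∧ orderOf t = 2 ^ k * m :=
    Nat.exists_eq_two_pow_mul_odd (orderOf_pos t).ne'
  set τ := t ^ m with hτ
  have hτP : P τ = negOne := by
    obtain ⟨j, rfl⟩ := hm
    rw [hτ, map_pow, ht, pow_succ, pow_mul, sq, hneg2, one_pow, one_mul]
  have hτ2 : IsPGroup 2 (zpowers τ) := by
    refine IsPGroup.of_card (n := k) ?_
    rw [Nat.card_zpowers, hτ, orderOf_pow' t hm.pos.ne', hkm,
      Nat.gcd_eq_right (dvd_mul_left m _), Nat.mul_div_cancel _ hm.pos]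
  set M0 := (zpowers negOne).comap P with hM0
  haveI : M0.Normal := by
    refine Normal.comap ⟨fun x hx g => ?_⟩ P
    obtain ⟨i, rfl⟩ := hx
    show g * negOne ^ i * g⁻¹ ∈ zpowers negOne
    rw [← conj_zpow, hneg]
    exact zpow_mem (mem_zpowers _) i
  have hτM : zpowers τ ≤ M0 := zpowers_le.2 (show P τ ∈ zpowers negOne from hτP ▸ mem_zpowers _)
  haveI : Fact (Nat.Prime 2) := ⟨Nat.prime_two⟩
  obtain ⟨S, hS⟩ := (hτ2.comap_of_injective M0.subtype M0.subtype_injective).exists_le_sylow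
  set N := normalizer (((S : Subgroup M0).map M0.subtype : Subgroup D) : Set D) with hN
  have hτN : τ ∈ (S : Subgroup M0).map M0.subtype :=
    ⟨⟨τ, hτM (mem_zpowers τ)⟩, hS (mem_zpowers τ), rfl⟩
  have hNs : P.range ≤ N.map P := by
    have h := congrArg (Subgroup.map P) (Sylow.normalizer_sup_eq_top S)
    rw [Subgroup.map_sup, ← MonoidHom.range_eq_map] at h
    refine h ▸ sup_le le_rfl ?_
    rw [hM0, Subgroup.map_comap_eq]
    refine inf_le_right.trans ?_
    rw [zpowers_le, ← hτP]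
    exact mem_map_of_mem P (le_normalizer hτN)
  -- `W ⊓ N = 1`
  have htriv : ∀ v, (⟨ψ v, hψD v⟩ : D) ∈ N → v = 0 := by
    intro v hv
    set w : D := ⟨ψ v, hψD v⟩
    have h1 : w * τ * w⁻¹ * τ⁻¹ ∈ (S : Subgroup M0).map M0.subtype :=
      mul_mem ((mem_normalizer_iff.1 hv τ).1 hτN) (inv_mem hτN)
    have h2 : ((w * τ * w⁻¹ * τ⁻¹ : D) : G) = ψ (v + v) := by
      have h3 : (τ : G) * (ψ v)⁻¹ * (τ : G)⁻¹ = ψ v := by
        have e : (ψ v)⁻¹ = ψ (-v) := inv_eq_of_mul_eq_one_right (by rw [← hadd, add_neg_cancel, hone])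
        rw [e, hπ τ, show π τ = negOne from hτP]
        congr 1
        funext i
        fin_cases i <;> simp [negOne, Matrix.mulVec, dotProduct, Fin.sum_univ_two]
      show ψ v * (τ : G) * (ψ v)⁻¹ * (τ : G)⁻¹ = ψ (v + v)
      rw [mul_assoc (ψ v), mul_assoc (ψ v), h3, hadd]
    obtain ⟨s, hs, hseq⟩ := h1
    obtain ⟨i, hi⟩ := S.2 ⟨s, hs⟩
    have hi' : ψ (v + v) ^ 2 ^ i = 1 := by
      rw [← h2, ← hseq]
      exact congrArg (fun z : (S : Subgroup M0) => (((z : M0) : D) : G)) hi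
    have hψpow : ∀ (n : ℕ) u, ψ u ^ n = ψ (n • u) := by
      intro n u
      induction n with
      | zero => simp [hone]
      | succ n ih => rw [pow_succ, ih, ← hadd, succ_nsmul]
    rw [hψpow, ← hone] at hi'
    have h4 := hψ hi'
    have h2ne : (2 : ZMod p) ≠ 0 := by
      intro h
      have : ((2 : ℕ) : ZMod p) = 0 := by exact_mod_cast h
      exact hp ((Nat.prime_dvd_prime_iff_eq Fact.out Nat.prime_two).1 ((ZMod.natCast_eq_zero_iff 2 p).1 this))
    funext j
    have h5 := congrFun h4 j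
    simp only [Pi.smul_apply, Pi.add_apply, nsmul_eq_mul, Nat.cast_pow, Nat.cast_ofNat,
      Pi.zero_apply] at h5
    rcases mul_eq_zero.1 h5 with h6 | h6
    · exact absurd h6 (pow_ne_zero _ h2ne)
    · rw [← two_mul] at h6
      exact (mul_eq_zero.1 h6).resolve_left h2ne
  -- the section
  let K : Subgroup D :=
    { carrier := {h | ∃ v, ∃ d ∈ N, h = ⟨ψ v, hψD v⟩ * d}
      one_mem' := ⟨0, 1, one_mem _, Subtype.ext (by simp [hone])⟩
      mul_mem' := by
        rintro _ _ ⟨u, d, hd, rfl⟩ ⟨v, e, he, rfl⟩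
        refine ⟨u + (π d).1.mulVec v, d * e, mul_mem hd he, Subtype.ext ?_⟩
        show ψ u * (d : G) * (ψ v * (e : G)) = ψ (u + (π d).1.mulVec v) * ((d : G) * (e : G))
        rw [hadd, ← hπ]
        group
      inv_mem' := by
        rintro _ ⟨u, d, hd, rfl⟩
        refine ⟨(π d⁻¹).1.mulVec (-u), d⁻¹, inv_mem hd, Subtype.ext ?_⟩
        have e : (ψ u)⁻¹ = ψ (-u) := inv_eq_of_mul_eq_one_right (by rw [← hadd, add_neg_cancel, hone])
        show (ψ u * (d : G))⁻¹ = ψ ((π d⁻¹).1.mulVec (-u)) * (d : G)⁻¹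
        rw [← hπ, ← e, Subgroup.coe_inv]
        group }
  have hK : ∀ h : K, ∃ v : Fin 2 → ZMod p, (⟨ψ v, hψD v⟩ : D)⁻¹ * (h : D) ∈ N := by
    rintro ⟨_, v, d, hd, rfl⟩
    exact ⟨v, by simpa using hd⟩
  choose c hc using hK
  have hcu : ∀ (h : K) v, (⟨ψ v, hψD v⟩ : D)⁻¹ * (h : D) ∈ N → c h = v := by
    intro h v hv
    have h1 := mul_mem (hc h) (inv_mem hv)
    have h2 : (⟨ψ (-(c h) + v), hψD _⟩ : D) ∈ N := by
      convert h1 using 1
      apply Subtype.ext
      have e : (ψ (c h))⁻¹ = ψ (-(c h)) :=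
        inv_eq_of_mul_eq_one_right (by rw [← hadd, add_neg_cancel, hone])
      show ψ (-(c h) + v) = (ψ (c h))⁻¹ * ((h : D) : G) * ((ψ v)⁻¹ * ((h : D) : G))⁻¹
      rw [hadd, ← e]
      group
    exact neg_add_eq_zero.1 (htriv _ h2)
  let F0 : K →* Matrix.SpecialLinearGroup (Fin 3) (ZMod p) :=
    MonoidHom.mk' (fun h => affMat (c h) (π h)) fun x y => by
      show affMat (c (x * y)) (P ((x : D) * (y : D))) = affMat (c x) (π x) * affMat (c y) (π y)
      rw [affMat_mul, map_mul]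
      congr 1
      apply hcu
      set dx : D := (⟨ψ (c x), hψD _⟩ : D)⁻¹ * (x : D) with hdx
      set dy : D := (⟨ψ (c y), hψD _⟩ : D)⁻¹ * (y : D) with hdy
      have hπx : π (x : D) = π dx := by
        show P (x : D) = P dx
        rw [hdx, map_mul, map_inv, hPψ, inv_one, one_mul]
      convert mul_mem (hc x) (hc y) using 1
      rw [← hdx, ← hdy, hπx]
      apply Subtype.ext
      show (ψ (c x + (π dx).1.mulVec (c y)))⁻¹ * (((x : D) : G) * ((y : D) : G)) = (dx : G) * (dy : G)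
      rw [hadd, ← hπ, show (dx : G) = (ψ (c x))⁻¹ * ((x : D) : G) from rfl,
        show (dy : G) = (ψ (c y))⁻¹ * ((y : D) : G) from rfl]
      group
  have hFmem : ∀ h : K, F0 h ∈ fOver (ZMod p) := fun h =>
    subset_closure ⟨by
      show (affMat (c h) (π (h : D))).1 1 0 = 0
      simpa [affMat] using hπ0 (h : D), by
      show (affMat (c h) (π (h : D))).1 2 0 = 0
      simp [affMat], by
      show (affMat (c h) (π (h : D))).1 2 1 = 0
      simp [affMat], by
      show (affMat (c h) (π (h : D))).1 2 2 = 1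
      simp [affMat]⟩
  refine InvHom.of_subgroup (S := D) ⟨K, F0.codRestrict (fOver (ZMod p)) hFmem, ?_⟩
  have hrange : fOver (ZMod p) ≤ F0.range := by
    refine (closure_le _).2 ?_
    rintro M ⟨h10, h0, h1, h2⟩
    obtain ⟨v, g, rfl⟩ := exists_affMat_eq h0 h1 h2
    obtain ⟨d, hd, rfl⟩ : g ∈ N.map P := hNs (hPs g (by simpa [affMat] using h10))
    refine ⟨⟨⟨ψ v, hψD v⟩ * d, v, d, hd, rfl⟩, ?_⟩
    show affMat (c _) (P (⟨ψ v, hψD v⟩ * d)) = affMat v (P d)
    rw [map_mul, hPψ, one_mul, hcu _ v]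
    simpa using hd
  rintro ⟨M, hM⟩
  obtain ⟨h, hh⟩ := hrange hM
  exact ⟨h, Subtype.ext hh⟩

/-- Two generators of the triangular group suffice. -/
theorem invHom_fOver_of_pair [Finite G] (hp : p ≠ 2) (u : (ZMod p)ˣ)
    (hu : ∀ w : (ZMod p)ˣ, ∃ n : ℕ, u ^ n = w) (ψ : (Fin 2 → ZMod p) → G)
    (hψ : Function.Injective ψ) (hadd : ∀ u v, ψ (u + v) = ψ u * ψ v) (x h : G)
    (hX : ∀ v, x * ψ v * x⁻¹ = ψ ((CfsgLib.Classical.uSL (1 : ZMod p)).1.mulVec v))
    (hH : ∀ v, h * ψ v * h⁻¹ = ψ ((torus u).1.mulVec v)) : InvHom ↥(fOver (ZMod p)) G := by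
  refine invHom_fOver_of_plane hp ψ hψ hadd fun g hg0 => ?_
  let Good : Matrix.SpecialLinearGroup (Fin 2) (ZMod p) → Prop := fun M =>
    ∃ k : G, ∀ v, k * ψ v * k⁻¹ = ψ (M.1.mulVec v)
  have hmul : ∀ M N, Good M → Good N → Good (M * N) := by
    rintro M N ⟨k, hk⟩ ⟨l, hl⟩
    refine ⟨k * l, fun v => ?_⟩
    rw [Matrix.SpecialLinearGroup.coe_mul, ← Matrix.mulVec_mulVec, ← hk, ← hl]
    group
  have hpow : ∀ M, Good M → ∀ n : ℕ, Good (M ^ n) := by
    intro M hM n
    induction n with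
    | zero => exact ⟨1, fun v => by simp⟩
    | succ n ih => rw [pow_succ]; exact hmul _ _ ih hM
  have hd := g.2
  rw [Matrix.det_fin_two, hg0, mul_zero, sub_zero] at hd
  have hα : IsUnit (g.1 0 0) := IsUnit.of_mul_eq_one _ hd
  obtain ⟨n, hn⟩ := hu hα.unit
  have e : g = CfsgLib.Classical.uSL (1 : ZMod p) ^ (g.1 0 1 * g.1 0 0).val * torus u ^ n := by
    have h1 : ∀ m : ℕ, CfsgLib.Classical.uSL (1 : ZMod p) ^ m =
        CfsgLib.Classical.uSL (m : ZMod p) := fun m => by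
      induction m with
      | zero =>
        apply Subtype.ext
        refine Matrix.ext fun i j => ?_
        fin_cases i <;> fin_cases j <;> simp [CfsgLib.Classical.uSL_coe]
      | succ m ih =>
        rw [pow_succ, ih]
        apply Subtype.ext
        refine Matrix.ext fun i j => ?_
        fin_cases i <;> fin_cases j <;>
          simp [CfsgLib.Classical.uSL_coe, Matrix.mul_apply, Fin.sum_univ_two, add_comm]
    have h2 : ∀ m : ℕ, torus u ^ m = torus (u ^ m) := fun m => by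
      induction m with
      | zero =>
        apply Subtype.ext
        refine Matrix.ext fun i j => ?_
        fin_cases i <;> fin_cases j <;> simp [torus_coe, -Units.val_inv_eq_inv_val]
      | succ m ih =>
        rw [pow_succ, ih, pow_succ u]
        apply Subtype.ext
        rw [Matrix.SpecialLinearGroup.coe_mul, torus_coe, torus_coe, torus_coe, Matrix.mul_fin_two]
        rw [mul_inv (u ^ m) u, Units.val_mul, Units.val_mul]
        simp only [mul_zero, add_zero, zero_mul, zero_add]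
    rw [h1, h2, hn, ZMod.natCast_zmod_val]
    obtain ⟨c, hc⟩ : ∃ c : ZMod p, c = (↑hα.unit⁻¹ : ZMod p) := ⟨_, rfl⟩
    have hc1 : g.1 0 0 * c = 1 := by rw [hc]; exact hα.unit.mul_inv
    have hc2 : g.1 1 1 = c :=
      left_inv_eq_right_inv ((mul_comm _ _).trans hd) hc1
    apply Subtype.ext
    rw [Matrix.SpecialLinearGroup.coe_mul, CfsgLib.Classical.uSL_coe, torus_coe, ← hc,
      IsUnit.unit_spec, Matrix.mul_fin_two]
    simp only [one_mul, mul_zero, zero_mul, add_zero, zero_add, mul_assoc, hc1, mul_one]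
    exact (Matrix.eta_fin_two g.1).trans (by rw [hg0, hc2])
  rw [e]
  exact hmul _ _ (hpow _ ⟨x, hX⟩ _) (hpow _ ⟨h, hH⟩ _)

end CfsgLib.FpFailure
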