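import Cfsg.Agent.Lib.PLocal.GlaubermanReplacement
import Cfsg.Agent.Lib.PLocal.Quadratic
import Cfsg.Agent.Lib.LocalEven.JAbel
import Cfsg.Agent.Lib.Transfer.Alperin

/-!
Glauberman replacement: a member of `maxAb T` outside `W` acting quadratically on `B`.
-/

set_option autoImplicit false
set_option linter.style.haveILetI false

namespace CfsgLib.FpFailure

open Subgroup CfsgLib.PLocal CfsgLib.LocalEven

universe u

variable {p : ℕ} [Fact p.Prime] {Γ : Type u} [Group Γ] [Finite Γ]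

theorem exists_quadratic_member (hp : p ≠ 2) {T W B : Subgroup Γ} (hT : IsPGroup p T)
    (hBW : B ≤ W) (hWT : W ≤ T) (hTB : T ≤ normalizer (B : Set Γ))
    (hnot : ∃ A ∈ maxAb T, ¬ A ≤ W) (hin : ∀ A ∈ maxAb T, A ≤ W → B ≤ A)
    (hder : ∀ A ∈ maxAb T, ⁅B, B⁆ ≤ A) :
    ∃ A ∈ maxAb T, ¬ A ≤ W ∧ ⁅⁅B, A⁆, A⁆ = ⊥ := by
  classical
  obtain ⟨A0, hA0, hA0W⟩ := hnot
  obtain ⟨A, ⟨hA, hAW⟩, hmax⟩ := Set.exists_max_image {A | A ∈ maxAb T ∧ ¬ A ≤ W}
    (fun A : Subgroup Γ => Nat.card ↥(A ⊓ B)) (Set.toFinite _) ⟨A0, hA0, hA0W⟩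
  obtain ⟨hAT, hAc, hAmax⟩ := mem_maxAb.1 hA
  by_cases hBN : B ≤ normalizer (A : Set Γ)
  · refine ⟨A, hA, hAW, ?_⟩
    have h1 : ⁅B, A⁆ ≤ A := by
      rw [Subgroup.commutator_comm]; exact commutator_le_of_le_normalizer hBN
    rw [eq_bot_iff]
    refine (commutator_mono h1 le_rfl).trans (le_of_eq ?_)
    exact commutator_eq_bot_iff_le_centralizer.2 (le_centralizer_of_isMulCommutative hAc)
  exfalso
  set A' := A.subgroupOf T with hA'
  set B' := B.subgroupOf T with hB'
  haveI : B'.Normal := ⟨fun n hn g => (mem_normalizer_iff.1 (hTB g.2) (n : Γ)).1 hn⟩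
  have hBT : B ≤ T := hBW.trans hWT
  have hA'c : IsMulCommutative A' :=
    ⟨⟨fun a b => Subtype.ext (Subtype.ext (comm_of_mem hAc a.2 b.2))⟩⟩
  have hmap : ∀ {X : Subgroup Γ}, X ≤ T → (X.subgroupOf T).map T.subtype = X := fun hX =>
    map_subgroupOf_eq_of_le hX
  have hder' : ⁅B', B'⁆ ≤ A' := by
    rw [← map_le_map_iff_of_injective T.subtype_injective, map_commutator, hmap hBT, hmap hAT]
    exact hder A hA
  have hnot' : ¬ B' ≤ normalizer (A' : Set T) := by
    intro h
    refine hBN fun b hb => mem_normalizer_iff.2 fun a => ?_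
    have h1 := mem_normalizer_iff.1 (h (show (⟨b, hBT hb⟩ : T) ∈ B' from hb))
    constructor
    · intro ha
      exact (h1 ⟨a, hAT ha⟩).1 ha
    · intro ha
      have hbT : b ∈ T := hBT hb
      have haT : a ∈ T := by
        have := T.mul_mem (T.mul_mem (T.inv_mem hbT) (hAT ha)) hbT
        simpa [mul_assoc] using this
      exact (h1 ⟨a, haT⟩).2 ha
  obtain ⟨b, hb, hbN, hbA⟩ := exists_mem_normalizer_normalizer (p := p) hT B' A' hnot'
  have F := replaceFacts (p := p) hT (fun h => absurd h hp) hA'c hder' hb hbN hbA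
  set R := (replaced A' b).map T.subtype with hR
  have hRmem : R ∈ maxAb T := by
    refine mem_maxAb.2 ⟨map_subtype_le _, ?_, fun X hX hXc => ?_⟩
    · haveI := F.comm
      exact isMulCommutative_of_le_centralizer (by
        rintro _ ⟨r, hr, rfl⟩ _ ⟨s, hs, rfl⟩
        exact congrArg Subtype.val (comm_of_mem F.comm hs hr))
    · rw [hR, card_map_of_injective T.subtype_injective, F.card_eq,
        Nat.card_congr (subgroupOfEquivOfLe hAT).toEquiv]
      exact hAmax X hX hXc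
  have hRB : R ⊓ B = (replaced A' b ⊓ B').map T.subtype := by
    rw [Subgroup.map_inf _ _ _ T.subtype_injective, hmap hBT]
  by_cases hRW : R ≤ W
  · have hle : B' ≤ replaced A' b := by
      rw [← map_le_map_iff_of_injective T.subtype_injective, hmap hBT]
      exact hin R hRmem hRW
    exact F.inf_lt_B.ne (inf_eq_right.2 hle)
  · refine not_lt.2 (hmax R ⟨hRmem, hRW⟩) ?_
    rw [hRB, card_map_of_injective T.subtype_injective]
    have h2 : Nat.card ↥(A ⊓ B) = Nat.card ↥(A' ⊓ B') := by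
      rw [← card_map_of_injective (K := A' ⊓ B') T.subtype_injective,
        Subgroup.map_inf _ _ _ T.subtype_injective, hmap hAT, hmap hBT]
    rw [h2]
    exact CfsgLib.Transfer.card_lt_card_of_lt F.inf_lt

end CfsgLib.FpFailure
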