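import Cfsg.Agent.Lib.FpFailure.Pair
import Cfsg.Agent.Lib.Transfer.Alperin

/-!
Quadratic `p`-elements: a subspace fixed by the quadratic elements of one Sylow subgroup is fixed by
all of them, unless a torus element is found.
-/

set_option autoImplicit false
set_option linter.unusedSectionVars false

namespace CfsgLib.FpFailure

open Subgroup
open scoped Pointwise

variable {p : ℕ} [Fact p.Prime] {L : Type*} [Group L]
  {V : Type*} [AddCommGroup V] [Module (ZMod p) V]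

/-- A quadratic `p`-element of a representation. -/
def QuadP (ρ : L →* Module.End (ZMod p) V) (x : L) : Prop :=
  (∃ n : ℕ, x ^ p ^ n = 1) ∧ (ρ x - 1) * (ρ x - 1) = 0

/-- The subgroup generated by the quadratic elements of `S`. -/
def wq (ρ : L →* Module.End (ZMod p) V) (S : Subgroup L) : Subgroup L :=
  closure {x | x ∈ S ∧ QuadP ρ x}

/-- The pointwise stabiliser of a subspace. -/
def fixer (ρ : L →* Module.End (ZMod p) V) (E : Submodule (ZMod p) V) : Subgroup L where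
  carrier := {g | ∀ e ∈ E, ρ g e = e}
  one_mem' e _ := by rw [map_one]; rfl
  mul_mem' {g h} hg hh e he := by rw [map_mul, Module.End.mul_apply, hh e he, hg e he]
  inv_mem' {g} hg e he := by
    nth_rewrite 1 [← hg e he]
    rw [← Module.End.mul_apply, ← map_mul, inv_mul_cancel, map_one, Module.End.one_apply]

theorem mem_fixer {ρ : L →* Module.End (ZMod p) V} {E : Submodule (ZMod p) V} {g : L} :
    g ∈ fixer ρ E ↔ ∀ e ∈ E, ρ g e = e := Iff.rfl

/-- The data delivered: an eigenvector of `h` in `E` and a natural section for `x`, `h`. -/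
def TorusData (ρ : L →* Module.End (ZMod p) V) (E : Submodule (ZMod p) V) (u : (ZMod p)ˣ)
    (x h : L) : Prop :=
  (∃ e ∈ E, e ≠ 0 ∧ ρ h e = (u : ZMod p) • e) ∧
    ∃ (V0 : Submodule (ZMod p) V) (v : V), (∀ w ∈ V0, ρ x w ∈ V0 ∧ ρ h w ∈ V0) ∧
      ρ x v - v ∉ V0 ∧ ρ h v - (↑u⁻¹ : ZMod p) • v ∈ V0 ∧
        ρ h (ρ x v - v) - (u : ZMod p) • (ρ x v - v) ∈ V0

theorem QuadP.conj {ρ : L →* Module.End (ZMod p) V} {x : L} (hx : QuadP ρ x) (g : L) :
    QuadP ρ (g * x * g⁻¹) := by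
  obtain ⟨⟨n, hn⟩, h2⟩ := hx
  refine ⟨⟨n, by rw [conj_pow, hn, mul_one, mul_inv_cancel]⟩, ?_⟩
  have e : ρ (g * x * g⁻¹) - 1 = ρ g * (ρ x - 1) * ρ g⁻¹ := by
    rw [map_mul, map_mul, mul_sub, sub_mul, mul_one, ← map_mul ρ g g⁻¹, mul_inv_cancel, map_one]
  rw [e]
  calc ρ g * (ρ x - 1) * ρ g⁻¹ * (ρ g * (ρ x - 1) * ρ g⁻¹)
      = ρ g * (ρ x - 1) * (ρ g⁻¹ * ρ g) * (ρ x - 1) * ρ g⁻¹ := by simp only [mul_assoc]
    _ = ρ g * ((ρ x - 1) * (ρ x - 1)) * ρ g⁻¹ := by
        rw [← map_mul, inv_mul_cancel, map_one, mul_one]; simp only [mul_assoc]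
    _ = 0 := by rw [h2, mul_zero, zero_mul]

theorem injective_rho (ρ : L →* Module.End (ZMod p) V) (g : L) : Function.Injective (ρ g) :=
  Function.LeftInverse.injective (g := ρ g⁻¹) fun v => by
    rw [← Module.End.mul_apply, ← map_mul, inv_mul_cancel, map_one, Module.End.one_apply]

theorem two_ne_zero' (hp : p ≠ 2) : (2 : ZMod p) ≠ 0 := by
  intro h
  have : ((2 : ℕ) : ZMod p) = 0 := by exact_mod_cast h
  exact hp ((Nat.prime_dvd_prime_iff_eq Fact.out Nat.prime_two).1 ((ZMod.natCast_eq_zero_iff 2 p).1 this))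

/-- The torus element of a quadratic pair moving `E`. -/
theorem pair_data [Finite L] [Finite V] (hp : p ≠ 2) (ρ : L →* Module.End (ZMod p) V) {x y : L}
    (hgen : closure ({x, y} : Set L) = ⊤) (hx : QuadP ρ x) (hy : QuadP ρ y) (Q : Sylow p L)
    (hxQ : x ∈ (Q : Subgroup L)) (E : Submodule (ZMod p) V)
    (hEinv : ∀ n ∈ normalizer ((Q : Subgroup L) : Set L), ∀ e ∈ E, ρ n e ∈ E)
    (hEfix : ∀ q ∈ (Q : Subgroup L), QuadP ρ q → ∀ e ∈ E, ρ q e = e)
    (hmove : ∃ e ∈ E, ρ y e ≠ e) (u : (ZMod p)ˣ) {k : ℕ} (hk : u ^ k = -1) :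
    ∃ h ∈ normalizer ((Q : Subgroup L) : Set L), TorusData ρ E u x h := by
  classical
  have hconjQ : ∀ z : L, (∃ n : ℕ, z ^ p ^ n = 1) →
      ∃ g : L, g * z * g⁻¹ ∈ (Q : Subgroup L) := by
    rintro z ⟨n, hn⟩
    obtain ⟨b, -, hb⟩ := (Nat.dvd_prime_pow Fact.out).1 (orderOf_dvd_of_pow_eq_one hn)
    have hz : IsPGroup p (zpowers z) := IsPGroup.of_card (n := b) (by rw [Nat.card_zpowers, hb])
    obtain ⟨S, hS⟩ := hz.exists_le_sylow
    obtain ⟨g, hg⟩ := MulAction.exists_smul_eq L S Q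
    refine ⟨g, hg ▸ CfsgLib.Transfer.mem_coe_smul_sylow_iff.2 ?_⟩
    rw [show g⁻¹ * (g * z * g⁻¹) * g = z by group]
    exact hS (mem_zpowers z)
  let Inv : Submodule (ZMod p) V → Prop := fun U => ∀ g : L, U ≤ U.comap (ρ g)
  let Mov : Submodule (ZMod p) V → Prop := fun U => ∃ g : L, ∃ e ∈ E, ρ g e - e ∉ U
  obtain ⟨V0, hV0⟩ := (Set.toFinite {U : Submodule (ZMod p) V | Inv U ∧ Mov U}).exists_maximal
    ⟨⊥, fun g v hv => by
      rw [Submodule.mem_comap, (Submodule.mem_bot _).1 hv, map_zero]; exact zero_mem _, by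
      obtain ⟨e, he, hne⟩ := hmove
      exact ⟨y, e, he, by rwa [Submodule.mem_bot, sub_eq_zero]⟩⟩
  obtain ⟨hInv, hMov⟩ := hV0.1
  let σ : L →* Module.End (ZMod p) (V ⧸ V0) :=
    { toFun := fun g => V0.mapQ V0 (ρ g) (hInv g)
      map_one' := Submodule.linearMap_qext _ (LinearMap.ext fun v => by simp)
      map_mul' := fun g h => Submodule.linearMap_qext _ (LinearMap.ext fun v => by simp) }
  have hσ : ∀ g v, σ g (Submodule.Quotient.mk v) = Submodule.Quotient.mk (ρ g v) := fun g v => rfl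
  haveI : Nontrivial (V ⧸ V0) := Submodule.Quotient.nontrivial_iff.2 fun h => by
    obtain ⟨g, e, he, hne⟩ := hMov
    exact hne (h ▸ Submodule.mem_top)
  haveI : Finite (V ⧸ V0) := Finite.of_surjective _ (Submodule.Quotient.mk_surjective V0)
  obtain ⟨N, hN⟩ := (Set.toFinite
    {U : Submodule (ZMod p) (V ⧸ V0) | U ≠ ⊥ ∧ ∀ g, U ≤ U.comap (σ g)}).exists_minimal
      ⟨⊤, top_ne_bot, fun g => by simp⟩
  obtain ⟨hN0, hNinv⟩ := hN.1
  set E' := E.map V0.mkQ with hE'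
  have hmodN : ∀ (g : L), ∀ e ∈ E', σ g e - e ∈ N := by
    have hlt : V0 < N.comap V0.mkQ := by
      obtain ⟨w, hw, hw0⟩ := Submodule.exists_mem_ne_zero_of_ne_bot hN0
      obtain ⟨v, rfl⟩ := Submodule.Quotient.mk_surjective V0 w
      refine lt_of_le_of_ne (fun a ha => ?_) fun h => hw0 ((Submodule.Quotient.mk_eq_zero V0).2 ?_)
      · rw [Submodule.mem_comap, Submodule.mkQ_apply, (Submodule.Quotient.mk_eq_zero V0).2 ha]
        exact zero_mem _
      · rw [h]; exact hw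
    have hnm : ¬ Mov (N.comap V0.mkQ) := fun hm => hlt.not_ge
      (hV0.2 ⟨fun g v hv => by
        rw [Submodule.mem_comap, Submodule.mem_comap, Submodule.mkQ_apply, ← hσ]
        exact hNinv g hv, hm⟩ hlt.le)
    rintro g _ ⟨e, he, rfl⟩
    by_contra hc
    refine hnm ⟨g, e, he, fun h => hc ?_⟩
    rw [Submodule.mem_comap, map_sub] at h
    rw [Submodule.mkQ_apply, hσ]
    exact h
  have hmoved : ∃ g, ∃ e ∈ E', σ g e ≠ e := by
    obtain ⟨g, e, he, hne⟩ := hMov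
    refine ⟨g, V0.mkQ e, ⟨e, he, rfl⟩, fun h => hne ?_⟩
    rw [Submodule.mkQ_apply, hσ, Submodule.Quotient.eq] at h
    exact h
  have hinv' : ∀ n ∈ normalizer ((Q : Subgroup L) : Set L), ∀ e ∈ E', σ n e ∈ E' := by
    rintro n hn _ ⟨e, he, rfl⟩
    exact ⟨ρ n e, hEinv n hn e he, rfl⟩
  have hfix' : ∀ q ∈ (Q : Subgroup L), QuadP ρ q → ∀ e ∈ E', σ q e = e := by
    rintro q hq hqq _ ⟨e, he, rfl⟩
    rw [Submodule.mkQ_apply, hσ, hEfix q hq hqq e he]
  -- all elements centralising `N` fix `E'` as soon as those of the Sylow subgroup do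
  have hconjfix : ∀ (g q : L), (∀ n ∈ N, σ q n = n) → (∀ e ∈ E', σ q e = e) →
      ∀ e ∈ E', σ (g⁻¹ * q * g) e = e := by
    intro g q hqN hqE e he
    have h1 : σ q (σ g e) = σ g e := by
      have h2 : σ g e = e + (σ g e - e) := by abel
      rw [h2, map_add, hqE e he, hqN _ (hmodN g e he)]
    rw [map_mul, map_mul, Module.End.mul_apply, Module.End.mul_apply, h1, ← Module.End.mul_apply,
      ← map_mul, inv_mul_cancel, map_one, Module.End.one_apply]
  by_cases htriv : ∀ g, ∀ n ∈ N, σ g n = n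
  · exfalso
    have hyfix : ∀ e ∈ E', σ y e = e := by
      obtain ⟨g, hg⟩ := hconjQ y hy.1
      intro e he
      have := hconjfix g (g * y * g⁻¹) (htriv _) (hfix' _ hg (hy.conj g)) e he
      rwa [show g⁻¹ * (g * y * g⁻¹) * g = y by group] at this
    obtain ⟨g, e, he, hne⟩ := hmoved
    refine hne ?_
    have hg : g ∈ closure ({x, y} : Set L) := hgen ▸ mem_top g
    refine (closure_le (K := fixer σ E')).2 ?_ hg e he
    rintro z (rfl | rfl)
    · exact hfix' z hxQ hx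
    · exact hyfix
  -- the torus element
  let σN : L →* Module.End (ZMod p) N :=
    { toFun := fun g => (σ g).restrict fun n hn => hNinv g hn
      map_one' := LinearMap.ext fun n => Subtype.ext (by simp)
      map_mul' := fun g h => LinearMap.ext fun n => Subtype.ext (by simp) }
  have hσN : ∀ g (n : N), ((σN g n : N) : V ⧸ V0) = σ g n := fun g n => rfl
  haveI : Nontrivial N := Submodule.nontrivial_iff_ne_bot.2 hN0
  have hquad : ∀ z, QuadP ρ z → (σN z - 1) * (σN z - 1) = 0 := by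
    intro z hz
    refine LinearMap.ext fun n => Subtype.ext ?_
    obtain ⟨v, hv⟩ := Submodule.Quotient.mk_surjective V0 (n : V ⧸ V0)
    have h2 := LinearMap.congr_fun hz.2 v
    simp only [Module.End.mul_apply, LinearMap.sub_apply, Module.End.one_apply, map_sub,
      LinearMap.zero_apply] at h2 ⊢
    simp only [AddSubgroupClass.coe_sub, hσN]
    rw [← hv, hσ, hσ, ← Submodule.Quotient.mk_sub, ← Submodule.Quotient.mk_sub,
      ← Submodule.Quotient.mk_sub, h2]
    rfl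
  have hirr : ∀ U : Submodule (ZMod p) N, (∀ g, U ≤ U.comap (σN g)) → U = ⊥ ∨ U = ⊤ := by
    intro U hU
    by_cases hU0 : U = ⊥
    · exact Or.inl hU0
    refine Or.inr (Submodule.eq_top_iff'.2 fun n => ?_)
    have hle : U.map N.subtype ≤ N := Submodule.map_subtype_le _ _
    have hm : N ≤ U.map N.subtype := hN.2 ⟨fun h => hU0 (by
      refine (Submodule.eq_bot_iff _).2 fun w hw => Subtype.ext ?_
      have hmem : (w : V ⧸ V0) ∈ U.map N.subtype := ⟨w, hw, rfl⟩
      rw [h, Submodule.mem_bot] at hmem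
      exact hmem), fun g w hw => by
      obtain ⟨w', hw', rfl⟩ := hw
      exact ⟨σN g w', hU g hw', rfl⟩⟩ hle
    obtain ⟨m, hm', e⟩ := hm n.2
    exact (Subtype.ext e : m = n) ▸ hm'
  obtain ⟨h, hhN, hscal, hneg, v, hvx, hvh, hvh'⟩ := exists_torus hp σN hgen (hquad x hx)
    (hquad y hy) hirr (by
      push Not at htriv
      obtain ⟨g, n, hn, hne⟩ := htriv
      exact ⟨g, fun h => hne (by
        simpa [hσN] using congrArg Subtype.val (LinearMap.congr_fun h ⟨n, hn⟩))⟩) Q hxQ u hk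
  by_cases hEN : ∃ e ∈ E', e ∈ N ∧ e ≠ 0
  · refine ⟨h, hhN, ?_, ?_⟩
    · obtain ⟨_, ⟨e, he, rfl⟩, heN, he0⟩ := hEN
      have hfx : σN x ⟨_, heN⟩ = ⟨_, heN⟩ := Subtype.ext (hfix' x hxQ hx _ ⟨e, he, rfl⟩)
      have h1 : σ h (V0.mkQ e) = (u : ZMod p) • V0.mkQ e :=
        congrArg Subtype.val (hscal _ hfx)
      rw [Submodule.mkQ_apply, hσ, ← Submodule.Quotient.mk_smul, Submodule.Quotient.eq] at h1
      have he0' : e ∉ V0 := fun h => he0 ((Submodule.Quotient.mk_eq_zero V0).2 h)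
      by_contra hno
      push Not at hno
      -- `h - u` is injective on `E`, hence bijective on `E ⊓ V0`
      let f : V →ₗ[ZMod p] V := ρ h - (u : ZMod p) • 1
      have hf : ∀ w, f w = ρ h w - (u : ZMod p) • w := fun w => rfl
      have hfE : ∀ w ∈ E, f w ∈ E := fun w hw => by
        rw [hf]; exact sub_mem (hEinv h hhN w hw) (E.smul_mem _ hw)
      have hfinj : ∀ w ∈ E, ∀ w' ∈ E, f w = f w' → w = w' := by
        intro w hw w' hw' hww
        by_contra hne
        refine hno (w - w') (sub_mem hw hw') (sub_ne_zero.2 hne) ?_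
        rw [← sub_eq_zero, ← hf, map_sub, hww, sub_self]
      have hfEV : ∀ w ∈ E ⊓ V0, f w ∈ E ⊓ V0 := fun w hw =>
        ⟨hfE w hw.1, by rw [hf]; exact sub_mem (hInv h hw.2) (V0.smul_mem _ hw.2)⟩
      let g : ↥(E ⊓ V0) → ↥(E ⊓ V0) := fun w => ⟨f w, hfEV w w.2⟩
      have hg : Function.Injective g := fun a b hab =>
        Subtype.ext (hfinj _ a.2.1 _ b.2.1 (congrArg Subtype.val hab))
      obtain ⟨w, hw⟩ := Finite.surjective_of_injective hg ⟨f e, hfE e he, by rw [hf]; exact h1⟩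
      exact he0' (hfinj _ w.2.1 e he (congrArg Subtype.val hw) ▸ w.2.2)
    · obtain ⟨v0, hv0⟩ := Submodule.Quotient.mk_surjective V0 (v : V ⧸ V0)
      refine ⟨V0, v0, fun w hw => ⟨hInv x hw, hInv h hw⟩, fun hc => hvx (Subtype.ext ?_), ?_, ?_⟩
      · rw [hσN, ← hv0, hσ]
        exact (Submodule.Quotient.eq V0).2 hc
      · have h2 := congrArg Subtype.val hvh
        rw [hσN, Submodule.coe_smul, ← hv0, hσ, ← Submodule.Quotient.mk_smul,
          Submodule.Quotient.eq] at h2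
        exact h2
      · have h2 := congrArg Subtype.val hvh'
        rw [hσN, Submodule.coe_smul, AddSubgroupClass.coe_sub, hσN, ← hv0, hσ,
          ← Submodule.Quotient.mk_sub, hσ, ← Submodule.Quotient.mk_smul, Submodule.Quotient.eq] at h2
        exact h2
  · exfalso
    push Not at hEN
    set τ := h ^ k with hτ
    have hτN : ∀ n ∈ N, σ τ n = -n := fun n hn => by
      have h2 := congrArg Subtype.val (LinearMap.congr_fun hneg ⟨n, hn⟩)
      simpa [hσN] using h2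
    have hτfix : ∀ τ' ∈ normalizer ((Q : Subgroup L) : Set L), ∀ e ∈ E', σ τ' e = e :=
      fun τ' hτ' e he => sub_eq_zero.1 (hEN _ (sub_mem (hinv' τ' hτ' e he) he) (hmodN τ' e he))
    have hτmem : τ ∈ normalizer ((Q : Subgroup L) : Set L) := pow_mem hhN k
    have hhalf : ∀ n : V ⧸ V0, -n = n → n = 0 := fun n hn => by
      have h2 : (2 : ZMod p) • n = 0 := by
        rw [two_smul]; nth_rewrite 1 [← hn]; exact neg_add_cancel n
      exact (smul_eq_zero.1 h2).resolve_left (two_ne_zero' hp)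
    have hQ0 : ∀ q ∈ (Q : Subgroup L), (∀ n ∈ N, σ q n = n) → ∀ e ∈ E', σ q e = e := by
      intro q hq hqN e he
      have hq' : q⁻¹ ∈ (Q : Subgroup L) := inv_mem hq
      have h1 := hτfix (q * τ * q⁻¹) (mul_mem (mul_mem (le_normalizer hq) hτmem)
        (le_normalizer hq')) e he
      rw [map_mul, map_mul, Module.End.mul_apply, Module.End.mul_apply] at h1
      have h2 : σ τ (σ q⁻¹ e) = σ q⁻¹ e := by
        refine injective_rho σ q ?_
        rw [h1, ← Module.End.mul_apply, ← map_mul, mul_inv_cancel, map_one, Module.End.one_apply]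
      have h3 : σ q⁻¹ e - e = 0 := by
        refine hhalf _ ?_
        rw [← hτN _ (hmodN q⁻¹ e he), map_sub, h2, hτfix τ hτmem e he]
      calc σ q e = σ q (σ q⁻¹ e) := by rw [sub_eq_zero.1 h3]
        _ = e := by rw [← Module.End.mul_apply, ← map_mul, mul_inv_cancel, map_one,
          Module.End.one_apply]
    have hK0 : ∀ c : L, (∀ n ∈ N, σ c n = n) → ∀ e ∈ E', σ c e = e := by
      intro c hc e he
      obtain ⟨a, m, hm, hcm⟩ := Nat.exists_eq_pow_mul_and_not_dvd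
        (orderOf_pos c).ne' p (Fact.out : p.Prime).ne_one
      have hpow : ∀ (j : ℕ), (∀ n ∈ N, σ (c ^ j) n = n) ∧ σ (c ^ j) e = e + j • (σ c e - e) := by
        intro j
        induction j with
        | zero => exact ⟨fun n _ => by simp, by simp⟩
        | succ j ih =>
          refine ⟨fun n hn => by
            rw [pow_succ, map_mul, Module.End.mul_apply, hc n hn, ih.1 n hn], ?_⟩
          rw [pow_succ', map_mul, Module.End.mul_apply, ih.2, map_add, map_nsmul,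
            hc _ (hmodN c e he), succ_nsmul]
          abel
      obtain ⟨g, hg⟩ := hconjQ (c ^ m) ⟨a, by
        rw [← pow_mul, mul_comm, ← hcm, pow_orderOf_eq_one]⟩
      have hgN : ∀ n ∈ N, σ (g * c ^ m * g⁻¹) n = n := fun n hn => by
        rw [map_mul, map_mul, Module.End.mul_apply, Module.End.mul_apply,
          (hpow m).1 _ (hNinv g⁻¹ hn), ← Module.End.mul_apply, ← map_mul, mul_inv_cancel, map_one,
          Module.End.one_apply]
      have h1 := hconjfix g _ hgN (hQ0 _ hg hgN) e he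
      rw [show g⁻¹ * (g * c ^ m * g⁻¹) * g = c ^ m by group, (hpow m).2, add_eq_left,
        ← Nat.cast_smul_eq_nsmul (ZMod p)] at h1
      exact sub_eq_zero.1 ((smul_eq_zero.1 h1).resolve_left
        fun h0 => hm ((ZMod.natCast_eq_zero_iff m p).1 h0))
    obtain ⟨g, e, he, hne⟩ := hmoved
    refine hne (sub_eq_zero.1 (hhalf _ ?_))
    have hc : ∀ n ∈ N, σ (g⁻¹ * τ * g * τ⁻¹) n = n := by
      intro n hn
      have hτi : σ τ⁻¹ n = -n := by
        refine injective_rho σ τ ?_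
        rw [← Module.End.mul_apply, ← map_mul, mul_inv_cancel, map_one, Module.End.one_apply,
          map_neg, hτN n hn, neg_neg]
      rw [map_mul, map_mul, map_mul, Module.End.mul_apply, Module.End.mul_apply,
        Module.End.mul_apply, hτi, map_neg, map_neg, map_neg, hτN _ (hNinv g hn), map_neg, neg_neg,
        ← Module.End.mul_apply, ← map_mul, inv_mul_cancel, map_one, Module.End.one_apply]
    have h1 : σ τ (σ g e) = σ g e := by
      rw [← Module.End.mul_apply, ← map_mul,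
        show τ * g = g * (g⁻¹ * τ * g * τ⁻¹) * τ by group, map_mul, map_mul, Module.End.mul_apply,
        Module.End.mul_apply, hτfix τ hτmem e he, hK0 _ hc e he]
    rw [← hτN _ (hmodN g e he), map_sub, h1, hτfix τ hτmem e he]

section Main

variable [Finite L] (ρ : L →* Module.End (ZMod p) V)

theorem wq_le (S : Subgroup L) : wq ρ S ≤ S := (closure_le _).2 fun _ hx => hx.1

theorem wq_smul (g : L) (S : Sylow p L) :
    wq ρ ((g • S : Sylow p L) : Subgroup L) =
      (wq ρ (S : Subgroup L)).map (MulAut.conj g).toMonoidHom := by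
  rw [wq, wq, MonoidHom.map_closure]
  congr 1
  ext z
  constructor
  · rintro ⟨hz, hq⟩
    refine ⟨g⁻¹ * z * g, ⟨CfsgLib.Transfer.mem_coe_smul_sylow_iff.1 hz, ?_⟩, ?_⟩
    · simpa using hq.conj g⁻¹
    · show g * (g⁻¹ * z * g) * g⁻¹ = z
      group
  · rintro ⟨w, ⟨hw, hq⟩, rfl⟩
    refine ⟨CfsgLib.Transfer.mem_coe_smul_sylow_iff.2 ?_, hq.conj g⟩
    show g⁻¹ * (g * w * g⁻¹) * g ∈ (S : Subgroup L)
    rw [show g⁻¹ * (g * w * g⁻¹) * g = w by group]
    exact hw

theorem wq_eq_of_le {S S' : Sylow p L} (h : wq ρ (S : Subgroup L) ≤ (S' : Subgroup L)) :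
    wq ρ (S : Subgroup L) = wq ρ (S' : Subgroup L) := by
  obtain ⟨g, rfl⟩ := MulAction.exists_smul_eq L S S'
  refine eq_of_le_of_card_ge ?_ ?_
  · exact (closure_le _).2 fun x hx => subset_closure ⟨h (subset_closure hx), hx.2⟩
  · rw [wq_smul, card_map_of_injective (MulAut.conj g).injective]

/-- An element of `S` with the property normalising a subgroup generated by such elements. -/
theorem exists_quad_normalizing {S I : Subgroup L} (hS : IsPGroup p S)
    (hI : I = closure {x | x ∈ I ∧ QuadP ρ x}) (hIS : I ≤ S) (hne : ¬ wq ρ S ≤ I) :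
    ∃ x ∈ S, QuadP ρ x ∧ x ∉ I ∧ x ∈ normalizer (I : Set L) := by
  by_contra hno
  push Not at hno
  have hsub : ∀ x ∈ S, QuadP ρ x → x ∈ normalizer (I : Set L) → x ∈ I := fun x h1 h2 h3 => by
    by_contra h4; exact hno x h1 h2 h4 h3
  set N := S ⊓ normalizer (I : Set L) with hN
  rcases (inf_le_left : N ≤ S).eq_or_lt with hNS | hlt
  · refine hne ((closure_le _).2 fun x hx => hsub x hx.1 hx.2 ?_)
    exact (hNS.ge hx.1).2
  · have hgr := CfsgLib.Transfer.lt_inf_normalizer hS hlt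
    obtain ⟨g, hg, hgN⟩ := SetLike.exists_of_lt hgr
    refine hgN ⟨hg.1, ?_⟩
    have hle : I.map (MulAut.conj g).toMonoidHom ≤ I := by
      conv_lhs => rw [hI]
      rw [MonoidHom.map_closure, closure_le]
      rintro _ ⟨x, ⟨hxI, hxq⟩, rfl⟩
      have hxN : g * x * g⁻¹ ∈ N :=
        (mem_normalizer_iff.1 hg.2 x).1 ⟨hIS hxI, le_normalizer hxI⟩
      exact hsub _ hxN.1 (hxq.conj g) hxN.2
    exact mem_normalizer_iff_map_conj_eq.2
      (eq_of_le_of_card_ge hle (card_map_of_injective (MulAut.conj g).injective).ge)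

/-- The main lemma. -/
theorem exists_torusData [Finite V] (hp : p ≠ 2) (u : (ZMod p)ˣ) {k : ℕ} (hk : u ^ k = -1)
    (T : Sylow p L) (W0 : Subgroup L) [W0.Normal] (hW0p : IsPGroup p W0)
    (hW0 : ∀ w ∈ W0, ρ w = 1) (E : Submodule (ZMod p) V)
    (hfix : wq ρ (T : Subgroup L) ≤ fixer ρ E)
    (hinv : ∀ n ∈ normalizer (wq ρ (T : Subgroup L) : Set L), ∀ e ∈ E, ρ n e ∈ E)
    (hmove : ∃ d, QuadP ρ d ∧ d ∉ fixer ρ E) :
    ∃ (Q4 : Subgroup L) (x h d m : L), W0 ≤ Q4 ∧ Q4 ≤ wq ρ (T : Subgroup L) ∧ x ∈ Q4 ∧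
      h ∈ normalizer (Q4 : Set L) ∧ m ∈ normalizer (wq ρ (T : Subgroup L) : Set L) ∧ h = d * m ∧
      d ∈ fixer ρ E ∧ QuadP ρ x ∧ TorusData ρ E u x h := by
  classical
  set F := fixer ρ E with hF
  set WT := wq ρ (T : Subgroup L) with hWT
  let Good : Sylow p L → Prop := fun S => wq ρ (S : Subgroup L) ≤ F
  -- a `p`-subgroup of the stabiliser lies in a good Sylow subgroup
  have hgood : ∀ U : Subgroup L, IsPGroup p U → U ≤ F →
      ∃ S : Sylow p L, U ≤ (S : Subgroup L) ∧ ∃ c ∈ F,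
        wq ρ (S : Subgroup L) = WT.map (MulAut.conj c).toMonoidHom := by
    intro U hU hUF
    obtain ⟨P0, hP0⟩ := (hU.comap_of_injective F.subtype F.subtype_injective).exists_le_sylow
    obtain ⟨P1, hP1⟩ := ((T.isPGroup'.to_le (wq_le ρ _)).comap_of_injective F.subtype
      F.subtype_injective : IsPGroup p (WT.comap F.subtype)).exists_le_sylow
    obtain ⟨c, hc⟩ := MulAction.exists_smul_eq F P1 P0
    obtain ⟨S0, hS0⟩ := (P0.isPGroup'.map F.subtype).exists_le_sylow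
    refine ⟨S0, fun z hz => hS0 ⟨⟨z, hUF hz⟩, hP0 hz, rfl⟩, c, c.2, ?_⟩
    rw [hWT, ← wq_smul]
    refine (wq_eq_of_le ρ ?_).symm
    rw [wq_smul]
    rintro _ ⟨z, hz, rfl⟩
    refine hS0 ⟨c * ⟨z, hfix hz⟩ * c⁻¹, ?_, rfl⟩
    rw [← hc]
    refine CfsgLib.Transfer.mem_coe_smul_sylow_iff.2 ?_
    rw [show c⁻¹ * (c * ⟨z, hfix hz⟩ * c⁻¹) * c = (⟨z, hfix hz⟩ : F) by group]
    exact hP1 (show (⟨z, hfix hz⟩ : F) ∈ WT.comap F.subtype from hz)
  have hmapF : ∀ c ∈ F, WT.map (MulAut.conj c).toMonoidHom ≤ F := by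
    rintro c hc _ ⟨z, hz, rfl⟩
    exact mul_mem (mul_mem hc (hfix hz)) (inv_mem hc)
  have hgood' : ∀ S : Sylow p L, Good S →
      ∃ c ∈ F, wq ρ (S : Subgroup L) = WT.map (MulAut.conj c).toMonoidHom := by
    intro S hS
    obtain ⟨S', hle, c, hc, he⟩ := hgood _ (S.isPGroup'.to_le (wq_le ρ _)) hS
    exact ⟨c, hc, (wq_eq_of_le ρ hle).trans he⟩
  let I : Sylow p L → Sylow p L → Subgroup L := fun S1 S2 =>
    closure {x | (x ∈ (S1 : Subgroup L) ∧ x ∈ (S2 : Subgroup L)) ∧ QuadP ρ x}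
  obtain ⟨d, hd, hdF⟩ := hmove
  obtain ⟨S', hS'⟩ : ∃ S' : Sylow p L, ¬ Good S' := by
    obtain ⟨n, hn⟩ := hd.1
    obtain ⟨b, -, hb⟩ := (Nat.dvd_prime_pow Fact.out).1 (orderOf_dvd_of_pow_eq_one hn)
    obtain ⟨S, hS⟩ := (IsPGroup.of_card (n := b) (G := zpowers d) (p := p)
      (by rw [Nat.card_zpowers, hb])).exists_le_sylow
    exact ⟨S, fun h => hdF (h (subset_closure ⟨hS (mem_zpowers d), hd⟩))⟩
  obtain ⟨⟨S1, S2⟩, ⟨hS1, hS2⟩, hmax⟩ := Set.exists_max_image
    {q : Sylow p L × Sylow p L | Good q.1 ∧ ¬ Good q.2} (fun q => Nat.card (I q.1 q.2))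
    (Set.toFinite _) ⟨(T, S'), hfix, hS'⟩
  set I0 := I S1 S2 with hI0
  have hI1 : I0 ≤ (S1 : Subgroup L) := (closure_le _).2 fun x hx => hx.1.1
  have hI2 : I0 ≤ (S2 : Subgroup L) := (closure_le _).2 fun x hx => hx.1.2
  have hIgen : I0 = closure {x | x ∈ I0 ∧ QuadP ρ x} :=
    le_antisymm (closure_mono fun x hx => ⟨subset_closure hx, hx.2⟩)
      ((closure_le _).2 fun x hx => hx.1)
  have hbigger : ∀ {q : Sylow p L × Sylow p L}, Good q.1 → ¬ Good q.2 →
      I0 ≤ (q.1 : Subgroup L) → I0 ≤ (q.2 : Subgroup L) →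
      ∀ z, z ∈ (q.1 : Subgroup L) → z ∈ (q.2 : Subgroup L) → QuadP ρ z → z ∈ I0 := by
    intro q h1 h2 h3 h4 z hz1 hz2 hz
    have hle : I0 ≤ I q.1 q.2 :=
      (closure_le _).2 fun x hx => subset_closure ⟨⟨h3 (subset_closure hx), h4 (subset_closure hx)⟩, hx.2⟩
    have heq := eq_of_le_of_card_ge hle (hmax q ⟨h1, h2⟩)
    rw [heq]
    exact subset_closure ⟨⟨hz1, hz2⟩, hz⟩
  obtain ⟨x, hxS, hxq, hxI, hxN⟩ := exists_quad_normalizing ρ S1.isPGroup' hIgen hI1 (fun h => by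
    have h1 : wq ρ (S1 : Subgroup L) = wq ρ (S2 : Subgroup L) := wq_eq_of_le ρ (h.trans hI2)
    exact hS2 (h1.symm.le.trans hS1))
  obtain ⟨y, hyS, hyq, hyI, hyN⟩ := exists_quad_normalizing ρ S2.isPGroup' hIgen hI2 (fun h => by
    have h1 : wq ρ (S2 : Subgroup L) = wq ρ (S1 : Subgroup L) := wq_eq_of_le ρ (h.trans hI1)
    exact hS2 (h1.le.trans hS1))
  have hI0F : I0 ≤ F := (closure_le _).2 fun z hz => hS1 (subset_closure ⟨hz.1.1, hz.2⟩)
  have hyF : y ∉ F := by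
    intro hy
    have hU : I0 ⊔ zpowers y ≤ (S2 : Subgroup L) := sup_le hI2 (zpowers_le.2 hyS)
    obtain ⟨S3, hS3, c, hc, he⟩ := hgood _ (S2.isPGroup'.to_le hU) (sup_le hI0F (zpowers_le.2 hy))
    exact hyI (hbigger (q := (S3, S2)) (he.le.trans (hmapF c hc)) hS2 (le_sup_left.trans hS3) hI2 y
      (hS3 (le_sup_right (a := I0) (mem_zpowers y))) hyS hyq)
  set K := closure ({x, y} : Set L) with hK
  let x' : K := ⟨x, subset_closure (by simp)⟩
  let y' : K := ⟨y, subset_closure (by simp)⟩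
  have hgen : closure ({x', y'} : Set K) = ⊤ := by
    refine map_injective K.subtype_injective ?_
    rw [MonoidHom.map_closure, ← MonoidHom.range_eq_map, range_subtype, Set.image_pair]
    rfl
  have hKN : K ≤ normalizer (I0 : Set L) := (closure_le _).2 (by
    rintro z (rfl | rfl) <;> assumption)
  let ρK := ρ.comp K.subtype
  have hqK : ∀ z : K, QuadP ρK z ↔ QuadP ρ (z : L) := fun z => by
    simp only [QuadP, ρK, MonoidHom.comp_apply, coe_subtype, ← SubmonoidClass.coe_pow,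
      OneMemClass.coe_eq_one]
  obtain ⟨n, hn⟩ := hxq.1
  obtain ⟨b, -, hb⟩ := (Nat.dvd_prime_pow Fact.out).1 (orderOf_dvd_of_pow_eq_one hn)
  obtain ⟨Q, hQ⟩ := (IsPGroup.of_card (n := b) (G := zpowers x') (p := p)
    (by rw [Nat.card_zpowers, ← orderOf_coe, hb])).exists_le_sylow
  have hxQ : x' ∈ (Q : Subgroup K) := hQ (mem_zpowers x')
  set QL := (Q : Subgroup K).map K.subtype with hQL
  set U4 := I0 ⊔ QL with hU4
  have hU4p : IsPGroup p U4 := by
    have hQN : QL ≤ normalizer (I0 : Set L) := (map_subtype_le _).trans hKN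
    exact (S1.isPGroup'.to_le hI1).to_sup_of_normal_left' (Q.isPGroup'.map K.subtype) hQN
  have hxU : x ∈ U4 := le_sup_right (a := I0) ⟨x', hxQ, rfl⟩
  obtain ⟨S4, hS4⟩ := hU4p.exists_le_sylow
  have hallgood : ∀ S : Sylow p L, U4 ≤ (S : Subgroup L) → Good S := by
    intro S hS
    by_contra hb'
    exact hxI (hbigger (q := (S1, S)) hS1 hb' hI1 (le_sup_left.trans hS) x hxS (hS hxU) hxq)
  obtain ⟨c, hc, hce⟩ := hgood' S4 (hallgood S4 hS4)
  -- normalisers of the Sylow subgroup of `K`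
  have hUnorm : ∀ n ∈ normalizer ((Q : Subgroup K) : Set K),
      U4.map (MulAut.conj (n : L)).toMonoidHom ≤ U4 := by
    intro n hn
    rw [hU4, Subgroup.map_sup]
    refine sup_le_sup (mem_normalizer_iff_map_conj_eq.1 (hKN n.2)).le ?_
    rintro _ ⟨_, ⟨q, hq, rfl⟩, rfl⟩
    exact ⟨n * q * n⁻¹, (mem_normalizer_iff.1 hn q).1 hq, rfl⟩
  have hfact : ∀ n ∈ normalizer ((Q : Subgroup K) : Set K), ∃ c' ∈ F,
      c'⁻¹ * (n : L) * c ∈ normalizer (WT : Set L) := by
    intro n hn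
    have hle : U4 ≤ (((n : L) • S4 : Sylow p L) : Subgroup L) := by
      intro z hz
      refine CfsgLib.Transfer.mem_coe_smul_sylow_iff.2 (hS4 ?_)
      have := hUnorm n⁻¹ (inv_mem hn) ⟨z, hz, rfl⟩
      simpa using this
    obtain ⟨c', hc', he'⟩ := hgood' _ (hallgood _ hle)
    refine ⟨c', hc', mem_normalizer_iff_map_conj_eq.2 ?_⟩
    rw [wq_smul, hce, map_map] at he'
    have h2 := congrArg (Subgroup.map (MulAut.conj c'⁻¹).toMonoidHom) he'
    rw [map_map, map_map] at h2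
    have e1 : ((MulAut.conj c'⁻¹).toMonoidHom.comp ((MulAut.conj (n : L)).toMonoidHom.comp
        (MulAut.conj c).toMonoidHom)) = (MulAut.conj (c'⁻¹ * (n : L) * c)).toMonoidHom :=
      MonoidHom.ext fun z => by simp [mul_assoc]
    have e2 : ((MulAut.conj c'⁻¹).toMonoidHom.comp (MulAut.conj c').toMonoidHom) =
        MonoidHom.id L := MonoidHom.ext fun z => by simp [mul_assoc]
    rw [e1, e2, map_id] at h2
    exact h2
  have hact : ∀ n ∈ normalizer ((Q : Subgroup K) : Set K), ∀ e ∈ E, ρK n e ∈ E := by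
    intro n hn e he
    obtain ⟨c', hc', hm⟩ := hfact n hn
    show ρ (n : L) e ∈ E
    rw [show (n : L) = c' * (c'⁻¹ * (n : L) * c) * c⁻¹ by group, map_mul, map_mul,
      Module.End.mul_apply, Module.End.mul_apply, (inv_mem hc : c⁻¹ ∈ F) e he,
      hc' _ (hinv _ hm e he)]
    exact hinv _ hm e he
  obtain ⟨h, hh, ⟨e, he, he0, hhe⟩, V0, v, hV0, hv1, hv2, hv3⟩ :=
    pair_data hp ρK hgen ((hqK x').2 hxq) ((hqK y').2 hyq) Q hxQ E hact
      (fun q hq hqq => hallgood S4 hS4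
        (subset_closure ⟨hS4 (le_sup_right (a := I0) ⟨q, hq, rfl⟩), (hqK q).1 hqq⟩))
      (by
        rw [mem_fixer] at hyF
        push Not at hyF
        exact hyF) u hk
  obtain ⟨c', hc', hm⟩ := hfact h hh
  set Q4 := closure {z | z ∈ U4 ∧ QuadP ρ z} with hQ4
  have hQ4S : Q4 ≤ wq ρ (S4 : Subgroup L) := closure_mono fun z hz => ⟨hS4 hz.1, hz.2⟩
  have hQ4n : (h : L) ∈ normalizer (Q4 : Set L) := by
    refine mem_normalizer_iff_map_conj_eq.2 (eq_of_le_of_card_ge ?_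
      (card_map_of_injective (MulAut.conj (h : L)).injective).ge)
    rw [hQ4, MonoidHom.map_closure, closure_le]
    rintro _ ⟨z, ⟨hz, hzq⟩, rfl⟩
    exact subset_closure ⟨hUnorm h hh ⟨z, hz, rfl⟩, hzq.conj _⟩
  set φ := (MulAut.conj c⁻¹).toMonoidHom with hφ
  refine ⟨Q4.map φ, c⁻¹ * x * c, c⁻¹ * h * c, c⁻¹ * c', c'⁻¹ * h * c, ?_, ?_, ?_, ?_, hm,
    by group, mul_mem (inv_mem hc) hc', by simpa using hxq.conj c⁻¹, ⟨e, he, he0, ?_⟩, V0.map (ρ c⁻¹), ρ c⁻¹ v, ?_, ?_, ?_, ?_⟩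
  · intro w hw
    refine ⟨c * w * c⁻¹, ?_, by simp [hφ, mul_assoc]⟩
    have hw' : c * w * c⁻¹ ∈ W0 := ‹W0.Normal›.conj_mem w hw c
    refine subset_closure ⟨le_sup_left (b := QL) (subset_closure ⟨⟨hW0p.le_sylow_of_normal S1 hw',
      hW0p.le_sylow_of_normal S2 hw'⟩, ?_⟩), ?_⟩ <;>
    · obtain ⟨j, hj⟩ := hW0p ⟨_, hw'⟩
      exact ⟨⟨j, congrArg Subtype.val hj⟩, by rw [hW0 _ hw', sub_self, mul_zero]⟩
  · refine (map_mono hQ4S).trans (le_of_eq ?_)
    rw [hce, map_map, show φ.comp (MulAut.conj c).toMonoidHom = MonoidHom.id L from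
      MonoidHom.ext fun z => by simp [hφ, mul_assoc], map_id]
  · exact ⟨x, subset_closure ⟨hxU, hxq⟩, by simp [hφ, mul_assoc]⟩
  · refine mem_normalizer_iff_map_conj_eq.2 (eq_of_le_of_card_ge ?_
      (card_map_of_injective (MulAut.conj _).injective).ge)
    rintro _ ⟨_, ⟨z, hz, rfl⟩, rfl⟩
    exact ⟨h * z * (h : L)⁻¹, (mem_normalizer_iff.1 hQ4n z).1 hz, by simp [hφ, mul_assoc]⟩
  · rw [map_mul, map_mul, Module.End.mul_apply, Module.End.mul_apply, hc e he]
    rw [show ρ (h : L) e = (u : ZMod p) • e from hhe, map_smul, (inv_mem hc : c⁻¹ ∈ F) e he]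
  · rintro _ ⟨w, hw, rfl⟩
    refine ⟨⟨ρ x w, (hV0 w hw).1, ?_⟩, ⟨ρ (h : L) w, (hV0 w hw).2, ?_⟩⟩ <;>
      rw [← Module.End.mul_apply, ← Module.End.mul_apply, ← map_mul, ← map_mul] <;>
      congr 2 <;> group
  all_goals
    have key : ∀ (g : L) (z : V), ρ (c⁻¹ * g * c) (ρ c⁻¹ z) = ρ c⁻¹ (ρ g z) := fun g z => by
      rw [← Module.End.mul_apply, ← Module.End.mul_apply, ← map_mul, ← map_mul]
      congr 2
      group
  · rw [key, ← map_sub]
    rintro ⟨w, hw, hwe⟩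
    exact hv1 (injective_rho ρ c⁻¹ hwe ▸ hw)
  · rw [key, ← map_smul, ← map_sub]
    exact ⟨_, hv2, rfl⟩
  · rw [key, ← map_sub, key, ← map_smul, ← map_sub]
    exact ⟨_, hv3, rfl⟩

end Main

end CfsgLib.FpFailure
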