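import Cfsg.Agent.Lib.FpFailure.Setup
import Cfsg.Agent.Lib.FpFailure.Torus
import Cfsg.Agent.Lib.FpFailure.Replace
import Cfsg.Agent.Lib.FpFailure.Involve
import Cfsg.Agent.Lib.Fusion.FunctorZJ
import Cfsg.Agent.Lib.Base.Nilpotent

/-!
Glauberman: failure of control of strong fusion by `Z(J(S))` gives `F(p)` in its normaliser and a
subgroup of order `p` of `Z(J(S))` with full automiser.
-/

set_option autoImplicit false
set_option linter.style.haveILetI false
set_option linter.unusedSectionVars false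
set_option maxHeartbeats 1600000

namespace CfsgLib.FpFailure

open Subgroup Cfsg CfsgLib.LocalEven CfsgLib.PLocal
open scoped commutatorElement

universe u

variable {p : ℕ} [Fact p.Prime] {G : Type u} [Group G] [Finite G]

/-- The conclusion. -/
def Concl (S : Sylow p G) (u : (ZMod p)ˣ) : Prop :=
  InvHom ↥(fOver (ZMod p)) ↥(normalizer (centerThompsonAOf (S : Subgroup G) : Set G)) ∧
    ∃ v ∈ centerThompsonAOf (S : Subgroup G), orderOf v = p ∧
      ∃ h ∈ normalizer (centerThompsonAOf (S : Subgroup G) : Set G),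
        h * v * h⁻¹ = v ^ (u : ZMod p).val

theorem zj_eq (S : Subgroup G) :
    centerThompsonAOf S = jAb S ⊓ centralizer (jAb S : Set G) := by
  rw [centerThompsonAOf, thompsonSubgroupAOf_eq_jAb]

theorem le_of_centralizes {R A B : Subgroup G} (hA : A ∈ maxAb R) (hBc : IsMulCommutative B)
    (hBR : B ≤ R) (hAB : A ≤ centralizer (B : Set G)) : B ≤ A := by
  obtain ⟨hAR, hAc, hAmax⟩ := mem_maxAb.1 hA
  have h := hAmax _ (sup_le hAR hBR) (isMulCommutative_sup hAc hBc hAB)
  exact le_sup_right.trans (eq_of_le_of_card_ge le_sup_left h).ge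

theorem zj_le_member {R A : Subgroup G} (hA : A ∈ maxAb R) : centerThompsonAOf R ≤ A := by
  rw [zj_eq]
  refine le_of_centralizes hA ?_ (inf_le_left.trans (jAb_le R))
    ((le_jAb hA).trans (le_centralizer_iff.1 inf_le_right))
  exact isMulCommutative_of_le_centralizer
    (inf_le_left.trans (le_centralizer_iff.1 inf_le_right))

theorem jAb_eq_of_all_le {T W : Subgroup G} (hWT : W ≤ T) (h : ∀ A ∈ maxAb T, A ≤ W) :
    jAb W = jAb T := by
  obtain ⟨A0, hA0⟩ := maxAb_nonempty T
  refine le_antisymm (sSup_le fun A hA =>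
    le_jAb ((mem_maxAb_iff_of_le hWT hA0 (h A0 hA0)).1 hA).1) (sSup_le fun A hA =>
    le_jAb ((mem_maxAb_iff_of_le hWT hA0 (h A0 hA0)).2 ⟨hA, h A hA⟩))

variable {S : Sylow p G} {Y : Subgroup G} [Y.Normal] {z : G}

theorem mem_CY_symm {a b : G} : a ∈ CY Y b ↔ b ∈ CY Y a := by
  rw [mem_CY, mem_CY, ← commutatorElement_inv, inv_mem_iff]

theorem core (hp : p ≠ 2) (hb : Base S Y z) (cf : Config S Y z) (u : (ZMod p)ˣ)
    (hu : ∀ w : (ZMod p)ˣ, ∃ n : ℕ, u ^ n = w) {k : ℕ} (hk : u ^ k = -1) : Concl S u := by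
  classical
  obtain ⟨W, g, A, hYW, hWS, hzW, hsyl, hg, hA, hgA, hno, hmax⟩ := cf
  set Z := centerThompsonAOf (S : Subgroup G) with hZ
  set H := normalizer (Z : Set G) with hHdef
  set N := normalizer (W : Set G) with hN
  set T := (S : Subgroup G) ⊓ N with hT
  have hWT : W ≤ T := le_inf hWS le_normalizer
  have hTS : T ≤ (S : Subgroup G) := inf_le_left
  let π := QuotientGroup.mk' Y
  have hπY : ∀ b, π b = 1 ↔ b ∈ Y := fun b => QuotientGroup.eq_one_iff b
  set B := closure ((Y : Set G) ∪ {b | ∃ x ∈ N, x * z * x⁻¹ = b}) with hB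
  have hYB : Y ≤ B := fun y hy => subset_closure (Or.inl hy)
  have hzconj : ∀ x ∈ N, x * z * x⁻¹ ∈ B := fun x hx => subset_closure (Or.inr ⟨x, hx, rfl⟩)
  have hzB : z ∈ B := by simpa using hzconj 1 (one_mem _)
  have hBW : B ≤ W := by
    rw [hB, closure_le]
    rintro b (hb' | ⟨x, hx, rfl⟩)
    · exact hYW hb'
    · exact (mem_normalizer_iff.1 hx z).1 hzW
  have hBT : B ≤ T := hBW.trans hWT
  have hBc : ∀ w ∈ W, B ≤ CY Y w := by
    intro w hw
    rw [hB, closure_le]
    rintro b (hb' | ⟨x, hx, rfl⟩)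
    · refine mem_CY.2 ?_
      rw [show ⁅b, w⁆ = b * (w * b⁻¹ * w⁻¹) by group]
      exact mul_mem hb' (‹Y.Normal›.conj_mem _ (inv_mem hb') w)
    · have hw' : x⁻¹ * w * x ∈ W := by simpa using (mem_normalizer_iff.1 (inv_mem hx) w).1 hw
      have := conj_mem_CY x (mem_CY_symm.1 (hb.central _ (hWS hw')))
      rwa [show x * (x⁻¹ * w * x) * x⁻¹ = w by group] at this
  have hBN : ∀ x ∈ N, ∀ b ∈ B, x * b * x⁻¹ ∈ B := by
    intro x hx b hb'
    have hle : B.map (MulAut.conj x).toMonoidHom ≤ B := by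
      conv_lhs => rw [hB]
      rw [MonoidHom.map_closure, closure_le]
      rintro _ ⟨b, (hb' | ⟨y, hy, rfl⟩), rfl⟩
      · exact hYB (‹Y.Normal›.conj_mem b hb' x)
      · show x * (y * z * y⁻¹) * x⁻¹ ∈ B
        rw [show x * (y * z * y⁻¹) * x⁻¹ = (x * y) * z * (x * y)⁻¹ by group]
        exact hzconj _ (mul_mem hx hy)
    exact hle ⟨b, hb', rfl⟩
  set Bq := B.map π with hBq
  have hBqc : IsMulCommutative Bq := ⟨⟨by
    rintro ⟨_, a, ha, rfl⟩ ⟨_, b, hb', rfl⟩
    refine Subtype.ext ?_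
    show π a * π b = π b * π a
    rw [← commutatorElement_eq_one_iff_mul_comm, ← map_commutatorElement, hπY]
    exact mem_CY.1 (hBc b (hBW hb') ha)⟩⟩
  have hBqp : ∀ b ∈ Bq, b ^ p = 1 := by
    have key : ∀ b ∈ B, (π b) ^ p = 1 := by
      intro b hb'
      induction hb' using closure_induction with
      | mem b hb' =>
        rcases hb' with hb' | ⟨x, hx, rfl⟩
        · rw [(hπY b).2 hb', one_pow]
        · rw [← map_pow, conj_pow, hπY]
          exact ‹Y.Normal›.conj_mem _ hb.pow x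
      | one => rw [map_one, one_pow]
      | mul a c ha hc iha ihc =>
        rw [map_mul, Commute.mul_pow, iha, ihc, one_mul]
        exact comm_of_mem hBqc ⟨a, ha, rfl⟩ ⟨c, hc, rfl⟩
      | inv a _ iha => rw [map_inv, inv_pow, iha, inv_one]
    rintro _ ⟨b, hb', rfl⟩
    exact key b hb'
  -- the kernel of the action meets `T` in `W`
  have hTker : ∀ x ∈ T, B ≤ CY Y x → x ∈ W := by
    set C0 : Subgroup G := N ⊓ (centralizer (Bq : Set (G ⧸ Y))).comap π with hC0
    have hC0mem : ∀ x, x ∈ N → (x ∈ C0 ↔ B ≤ CY Y x) := by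
      intro x hx
      simp only [hC0, mem_inf, mem_comap, hx, true_and, mem_centralizer_iff, hBq]
      constructor
      · intro h b hb'
        rw [mem_CY, ← hπY, map_commutatorElement, commutatorElement_eq_one_iff_mul_comm]
        exact h _ ⟨b, hb', rfl⟩
      · rintro h _ ⟨b, hb', rfl⟩
        have := mem_CY.1 (h hb')
        rwa [← hπY, map_commutatorElement, commutatorElement_eq_one_iff_mul_comm] at this
    have hWC : W ≤ C0 := fun w hw => (hC0mem w (le_normalizer hw)).2 (hBc w hw)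
    have hC0n : ∀ m ∈ N, ∀ c ∈ C0, m * c * m⁻¹ ∈ C0 := by
      intro m hm c hc
      have hcN : c ∈ N := hc.1
      refine (hC0mem _ (mul_mem (mul_mem hm hcN) (inv_mem hm))).2 fun b hb' => ?_
      have hb'' : m⁻¹ * b * m ∈ B := by simpa using hBN m⁻¹ (inv_mem hm) b hb'
      have := conj_mem_CY m ((hC0mem c hcN).1 hc hb'')
      rwa [show m * (m⁻¹ * b * m) * m⁻¹ = b by group] at this
    haveI : (C0.subgroupOf N).Normal := ⟨fun c hc m => hC0n m m.2 c hc⟩
    by_contra hcon
    push Not at hcon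
    obtain ⟨x, hxT, hxB, hxW⟩ := hcon
    set Q := T ⊓ C0 with hQ
    have hlt : W < Q := lt_of_le_of_ne (le_inf hWT hWC) fun e =>
      hxW (e.ge (mem_inf.2 ⟨hxT, (hC0mem x hxT.2).2 hxB⟩))
    have hTQ : T ≤ normalizer (Q : Set G) := by
      intro t ht
      refine mem_normalizer_iff_map_conj_eq.2 (eq_of_le_of_card_ge ?_
        (card_map_of_injective (MulAut.conj t).injective).ge)
      rintro _ ⟨q, hq, rfl⟩
      exact mem_inf.2 ⟨mul_mem (mul_mem ht hq.1) (inv_mem ht), hC0n t ht.2 q hq.2⟩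
    let T0 : Sylow p N := ((S.isPGroup'.to_le hTS).comap_subtype).toSylow (by
      have : T.relIndex N = (T.subgroupOf N).index := rfl
      rwa [this] at hsyl)
    obtain ⟨c, hc, m, hm, hcm⟩ :=
      CfsgLib.PLocal.exists_mul_normalizer T0 (C0.subgroupOf N) ⟨g, hg⟩
    have hmQ : (m : G) ∈ normalizer (Q : Set G) := by
      have h1 := le_normalizer_map N.subtype ⟨m, hm, rfl⟩
      have e : ((T0 : Subgroup N) ⊓ C0.subgroupOf N).map N.subtype = Q := by
        ext y
        constructor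
        · rintro ⟨y, hy, rfl⟩
          exact mem_inf.2 ⟨hy.1, hy.2⟩
        · intro hy
          exact ⟨⟨y, hy.1.2⟩, ⟨hy.1, hy.2⟩, rfl⟩
      rwa [e] at h1
    refine absurd (hmax Q ?_) (not_le.2 (mu_lt_of_lt hlt hTQ))
    refine hb.descend (n := 1) (one_mem _) hYW (by simpa using hzW) hsyl hg (A := A)
      (fun a ha => ⟨(hA a ha).1, (hA a ha).2, by simpa using hb.central a (hA a ha).1⟩)
      (fun a ha => ⟨hgA a ha, by simpa using hb.central _ (hgA a ha)⟩) hno hlt.le inf_le_left hTQ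
      (fun q hq => by simpa using hb.central q hq.1.1) (C := C0) ?_ inf_le_left ?_ ?_
    · intro c hc
      simpa using mem_CY_symm.1 ((hC0mem c hc.1).1 hc hzB)
    · exact fun m hm => mem_normalizer_iff_map_conj_eq.2 (eq_of_le_of_card_ge
        (by rintro _ ⟨c, hc, rfl⟩; exact hC0n m hm c hc)
        (card_map_of_injective (MulAut.conj m).injective).ge)
    · exact ⟨c, hc, m, hmQ, m.2, congrArg Subtype.val hcm⟩
  -- a quadratic element
  obtain ⟨t, htT, htW, htq⟩ : ∃ t ∈ T, t ∉ W ∧ ∀ b ∈ B, ⁅⁅b, t⁆, t⁆ ∈ Y := by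
    by_cases hSN : (S : Subgroup G) ≤ N
    · have hder : ∀ A ∈ maxAb (S : Subgroup G), ⁅B, B⁆ ≤ A := fun A hA =>
        commutator_le.2 fun a ha b hb' =>
          zj_le_member hA (hb.le (mem_CY.1 (hBc b (hBW hb') ha)))
      have hin : ∀ A ∈ maxAb (S : Subgroup G), A ≤ W → B ≤ A := by
        intro A hA hAW
        rw [hB, closure_le]
        rintro b (hb' | ⟨x, hx, rfl⟩)
        · exact zj_le_member hA (hb.le hb')
        · have hmap : A.map (MulAut.conj x⁻¹).toMonoidHom ≤ (S : Subgroup G) := by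
            rintro _ ⟨a, ha, rfl⟩
            exact hWS ((mem_normalizer_iff.1 (inv_mem hx) a).1 (hAW ha))
          obtain ⟨a, ha, e⟩ := zj_le_member (map_conj_mem_maxAb hA hmap) hb.mem
          rw [← e]
          show x * (x⁻¹ * a * x⁻¹⁻¹) * x⁻¹ ∈ A
          rwa [show x * (x⁻¹ * a * x⁻¹⁻¹) * x⁻¹ = a by group]
      obtain ⟨A', hA', hA'W, hq⟩ := exists_quadratic_member hp S.isPGroup' hBW hWS
        (fun s hs => mem_normalizer_iff.2 fun b => ⟨fun hb' => hBN s (hSN hs) b hb', fun hb' => by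
          simpa [mul_assoc] using hBN s⁻¹ (inv_mem (hSN hs)) _ hb'⟩) (by
          by_contra hall
          push Not at hall
          refine hno (Realised.of_mem ?_)
          have h1 : g ∈ normalizer (jAb (S : Subgroup G) : Set G) :=
            jAb_eq_of_all_le hWS hall ▸ normalizer_le_normalizer_jAb W hg
          show g ∈ normalizer (centerThompsonAOf (S : Subgroup G) : Set G)
          rw [zj_eq]
          refine mem_normalizer_iff_map_conj_eq.2 (eq_of_le_of_card_ge ?_
            (card_map_of_injective (MulAut.conj g).injective).ge)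
          rintro _ ⟨y, ⟨hy1, hy2⟩, rfl⟩
          refine mem_inf.2 ⟨(mem_normalizer_iff.1 h1 y).1 hy1, mem_centralizer_iff.2 fun r hr => ?_⟩
          have hr' : g⁻¹ * r * g ∈ jAb (S : Subgroup G) := by
            simpa using (mem_normalizer_iff.1 (inv_mem h1) r).1 hr
          show r * (g * y * g⁻¹) = g * y * g⁻¹ * r
          calc r * (g * y * g⁻¹) = g * (g⁻¹ * r * g * y) * g⁻¹ := by group
            _ = _ := by rw [mem_centralizer_iff.1 hy2 _ hr']; group) hin hder
      obtain ⟨t, htA, htW⟩ := SetLike.not_le_iff_exists.1 hA'W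
      refine ⟨t, ⟨(mem_maxAb.1 hA').1 htA, hSN ((mem_maxAb.1 hA').1 htA)⟩, htW, fun b hb' => ?_⟩
      have h1 : ⁅⁅b, t⁆, t⁆ ∈ ⁅⁅B, A'⁆, A'⁆ :=
        commutator_mem_commutator (commutator_mem_commutator hb' htA) htA
      rw [hq, mem_bot] at h1
      exact h1 ▸ one_mem Y
    · have hTlt : T < (S : Subgroup G) := lt_of_le_of_ne hTS fun e => hSN (e ▸ inf_le_right)
      set Wq := W.map π with hWq
      set Tq := T.map π with hTq
      have hTqp : IsPGroup p Tq := (S.isPGroup'.to_le hTS).map π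
      have hBWq : Bq ≤ Wq := map_mono hBW
      have hin : ∀ A ∈ maxAb Tq, A ≤ Wq → Bq ≤ A := by
        intro A hA hAW
        refine le_of_centralizes hA hBqc (hBWq.trans (map_mono hWT)) ?_
        rintro a ha
        obtain ⟨w, hw, rfl⟩ := hAW ha
        refine mem_centralizer_iff.2 ?_
        rintro _ ⟨b, hb', rfl⟩
        rw [← commutatorElement_eq_one_iff_mul_comm, ← map_commutatorElement, hπY]
        exact mem_CY.1 (hBc w hw hb')
      obtain ⟨A', hA', hA'W, hq⟩ := exists_quadratic_member hp hTqp hBWq (map_mono hWT)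
        (by
          rintro _ ⟨t, ht, rfl⟩
          refine mem_normalizer_iff_map_conj_eq.2 (eq_of_le_of_card_ge ?_
            (card_map_of_injective (MulAut.conj _).injective).ge)
          rintro _ ⟨_, ⟨b, hb', rfl⟩, rfl⟩
          exact ⟨t * b * t⁻¹, hBN t ht.2 b hb', by simp⟩) (by
          by_contra hall
          push Not at hall
          have hJ : jAb Wq = jAb Tq := jAb_eq_of_all_le (map_mono hWT) hall
          set W' := (jAb Tq).comap π with hW'
          have hW'W : W' ≤ W := by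
            intro x hx
            obtain ⟨w, hw, e⟩ := (hJ ▸ jAb_le Wq : jAb Tq ≤ Wq) hx
            have h1 : w⁻¹ * x ∈ Y := QuotientGroup.eq.1 e
            simpa using mul_mem hw (hYW h1)
          have hnorm : ∀ (R : Subgroup G), jAb (R.map π) = jAb Tq →
              normalizer (R : Set G) ≤ normalizer (W' : Set G) := by
            intro R hR x hx
            have hx' : π x ∈ normalizer ((R.map π : Subgroup _) : Set (G ⧸ Y)) :=
              le_normalizer_map π (mem_map_of_mem π hx)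
            have h1 : π x ∈ normalizer (jAb Tq : Set (G ⧸ Y)) :=
              hR ▸ normalizer_le_normalizer_jAb _ hx'
            refine mem_normalizer_iff.2 fun y => ?_
            rw [hW', mem_comap, mem_comap, map_mul, map_mul, map_inv]
            exact mem_normalizer_iff.1 h1 (π y)
          have hYW' : Y ≤ W' := fun y hy => by
            rw [hW', mem_comap, (hπY y).2 hy]; exact one_mem _
          have hzW' : z ∈ W' := by
            obtain ⟨A0, hA0⟩ := maxAb_nonempty Tq
            exact le_jAb hA0 (hin A0 hA0 (hall A0 hA0) ⟨z, hzB, rfl⟩)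
          have hbad : Bad S Y z W' :=
            ⟨hYW', hW'W.trans hWS, 1, one_mem _, by simpa using hzW',
              fun q hq => by simpa using hb.central q (hWS (hW'W hq)), g, hnorm W hJ hg, A,
              fun a ha => ⟨(hA a ha).1, hnorm W hJ (hA a ha).2, by
                simpa using hb.central a (hA a ha).1⟩,
              fun a ha => ⟨hgA a ha, by simpa using hb.central _ (hgA a ha)⟩, hno⟩
          refine absurd (hmax W' hbad) (not_le.2 (mu_lt_of_card_lt ?_))
          exact lt_of_lt_of_le (CfsgLib.Transfer.card_lt_card_of_lt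
            (CfsgLib.Transfer.lt_inf_normalizer S.isPGroup' hTlt))
            (card_le_of_le (inf_le_inf_left _ (hnorm T rfl)))) hin
        (fun A _ => by
          rw [commutator_eq_bot_iff_le_centralizer.2 (le_centralizer_of_isMulCommutative hBqc)]
          exact bot_le)
      obtain ⟨a, haA, haW⟩ := SetLike.not_le_iff_exists.1 hA'W
      obtain ⟨t, ht, rfl⟩ := (mem_maxAb.1 hA').1 haA
      refine ⟨t, ht, fun h => haW ⟨t, h, rfl⟩, fun b hb' => ?_⟩
      have h1 : ⁅⁅π b, π t⁆, π t⁆ ∈ ⁅⁅Bq, A'⁆, A'⁆ :=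
        commutator_mem_commutator (commutator_mem_commutator ⟨b, hb', rfl⟩ haA) haA
      rw [hq, mem_bot, ← map_commutatorElement, ← map_commutatorElement, hπY] at h1
      exact h1
  -- the module
  haveI : Finite (Additive Bq) := inferInstanceAs (Finite Bq)
  letI : AddCommGroup (Additive Bq) :=
    { (inferInstance : AddGroup (Additive Bq)) with
      add_comm := fun a b => Additive.toMul.injective (Subtype.ext
        (comm_of_mem hBqc (Additive.toMul a).2 (Additive.toMul b).2)) }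
  letI := AddCommGroup.zmodModule (n := p) (G := Additive Bq) fun v =>
    Additive.toMul.injective (Subtype.ext (hBqp _ (Additive.toMul v).2))
  have hconjmem : ∀ (x : N) (b : Bq), π (x : G) * (b : G ⧸ Y) * (π (x : G))⁻¹ ∈ Bq := by
    rintro x ⟨_, b, hb', rfl⟩
    exact ⟨(x : G) * b * (x : G)⁻¹, hBN x x.2 b hb', by simp⟩
  let ρ : N →* Module.End (ZMod p) (Additive Bq) :=
    { toFun := fun x => (AddMonoidHom.mk' (fun v : Additive Bq =>
          Additive.ofMul (⟨_, hconjmem x (Additive.toMul v)⟩ : Bq)) fun v w => by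
            apply Additive.toMul.injective
            apply Subtype.ext
            show π (x : G) * (((Additive.toMul v : Bq) : G ⧸ Y) * ((Additive.toMul w : Bq) : G ⧸ Y)) *
                (π (x : G))⁻¹ = π (x : G) * _ * (π (x : G))⁻¹ * (π (x : G) * _ * (π (x : G))⁻¹)
            group).toZModLinearMap p
      map_one' := LinearMap.ext fun v => Additive.toMul.injective (Subtype.ext (by
        show π ((1 : N) : G) * ((Additive.toMul v : Bq) : G ⧸ Y) * (π ((1 : N) : G))⁻¹ =
          ((Additive.toMul v : Bq) : G ⧸ Y)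
        rw [OneMemClass.coe_one, map_one, one_mul, inv_one, mul_one]))
      map_mul' := fun x y => LinearMap.ext fun v => Additive.toMul.injective (Subtype.ext (by
        show π ((x * y : N) : G) * _ * (π ((x * y : N) : G))⁻¹ =
          π (x : G) * (π (y : G) * _ * (π (y : G))⁻¹) * (π (x : G))⁻¹
        rw [Subgroup.coe_mul, map_mul]
        group)) }
  let cls : B → Additive Bq := fun b => Additive.ofMul (⟨π b, mem_map_of_mem π b.2⟩ : Bq)
  have hcls_surj : ∀ v : Additive Bq, ∃ b : B, cls b = v := fun v => by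
    obtain ⟨b, hb', e⟩ := (Additive.toMul v).2
    exact ⟨⟨b, hb'⟩, Additive.toMul.injective (Subtype.ext e)⟩
  have hcls_mul : ∀ a b : B, cls (a * b) = cls a + cls b := fun a b =>
    Additive.toMul.injective (Subtype.ext (map_mul π (a : G) b))
  have hcls_eq : ∀ a b : B, cls a = cls b ↔ (a : G)⁻¹ * b ∈ Y := fun a b => by
    rw [← QuotientGroup.eq]
    exact ⟨fun h => congrArg (fun w : Additive Bq => ((Additive.toMul w : Bq) : G ⧸ Y)) h,
      fun h => Additive.toMul.injective (Subtype.ext h)⟩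
  have hcls_one : cls 1 = 0 := Additive.toMul.injective (Subtype.ext (map_one π))
  have hcls0 : ∀ a : B, cls a = 0 ↔ (a : G) ∈ Y := fun a => by
    rw [← hcls_one, hcls_eq, OneMemClass.coe_one, mul_one, inv_mem_iff]
  have hρ : ∀ (x : N) (b : B),
      ρ x (cls b) = cls ⟨(x : G) * b * (x : G)⁻¹, hBN x x.2 b b.2⟩ := fun x b =>
    Additive.toMul.injective (Subtype.ext (by
      show π (x : G) * π (b : G) * (π (x : G))⁻¹ = π ((x : G) * b * (x : G)⁻¹)
      simp))
  have hρfix : ∀ (x : N) (b : B), ρ x (cls b) = cls b ↔ (b : G) ∈ CY Y (x : G) := fun x b => by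
    rw [hρ, eq_comm, hcls_eq, mem_CY]
    show (b : G)⁻¹ * ((x : G) * b * (x : G)⁻¹) ∈ Y ↔ _
    have e : ⁅(b : G), (x : G)⁆ = ((x : G) * (b : G) * (x : G)⁻¹ * (b : G)⁻¹)⁻¹ := by group
    rw [e, inv_mem_iff]
    constructor
    · intro h
      have := ‹Y.Normal›.conj_mem _ h (b : G)
      convert this using 1
      group
    · intro h
      have := ‹Y.Normal›.conj_mem _ h (b : G)⁻¹
      convert this using 1
      group
  let T0 : Sylow p N := ((S.isPGroup'.to_le hTS).comap_subtype).toSylow (by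
    have : T.relIndex N = (T.subgroupOf N).index := rfl
    rwa [this] at hsyl)
  set W0 := W.subgroupOf N with hW0def
  haveI : W0.Normal := normal_subgroupOf_iff_le_normalizer le_normalizer |>.2 le_rfl
  have hW0p : IsPGroup p W0 := (S.isPGroup'.to_le hWS).comap_subtype
  have hW0 : ∀ w ∈ W0, ρ w = 1 := fun w hw => LinearMap.ext fun v => by
    obtain ⟨b, rfl⟩ := hcls_surj v
    exact (hρfix w b).2 (hBc _ hw b.2)
  have hquadt : QuadP ρ (⟨t, htT.2⟩ : N) := by
    refine ⟨?_, LinearMap.ext fun v => ?_⟩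
    · obtain ⟨j, hj⟩ := S.isPGroup' ⟨t, htT.1⟩
      exact ⟨j, Subtype.ext (congrArg Subtype.val hj : _)⟩
    obtain ⟨b, rfl⟩ := hcls_surj v
    set tN : N := ⟨t, htT.2⟩
    simp only [Module.End.mul_apply, LinearMap.sub_apply, Module.End.one_apply, LinearMap.zero_apply]
    have hd : ⁅t, (b : G)⁆ ∈ B := by
      rw [show ⁅t, (b : G)⁆ = t * b * t⁻¹ * (b : G)⁻¹ by group]
      exact mul_mem (hBN t htT.2 b b.2) (inv_mem b.2)
    have e1 : ρ tN (cls b) - cls b = cls ⟨⁅t, (b : G)⁆, hd⟩ := by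
      rw [sub_eq_iff_eq_add, ← hcls_mul, hρ]
      refine congrArg cls (Subtype.ext ?_)
      show t * b * t⁻¹ = ⁅t, (b : G)⁆ * b
      group
    rw [e1, sub_eq_zero, hρfix]
    show ⁅t, (b : G)⁆ ∈ CY Y t
    rw [← commutatorElement_inv]
    exact inv_mem (mem_CY.2 (htq b b.2))
  set WT := wq ρ (T0 : Subgroup N) with hWT'
  set Wt := WT.map N.subtype with hWt
  have hWTle : Wt ≤ T := by
    rintro _ ⟨w, hw, rfl⟩
    exact wq_le ρ _ hw
  have hWWT : W0 ≤ WT := fun w hw => subset_closure ⟨hWT hw, by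
    obtain ⟨j, hj⟩ := hW0p ⟨w, hw⟩
    exact ⟨j, congrArg Subtype.val hj⟩, by rw [hW0 w hw, sub_self, mul_zero]⟩
  have hWlt : W < Wt := by
    refine lt_of_le_of_ne (fun w hw => ⟨⟨w, le_normalizer hw⟩, hWWT hw, rfl⟩) fun e => htW ?_
    rw [e]
    exact ⟨⟨t, htT.2⟩, subset_closure ⟨htT, hquadt⟩, rfl⟩
  have hTnorm : T ≤ normalizer (Wt : Set G) := by
    intro s hs
    refine mem_normalizer_iff_map_conj_eq.2 (eq_of_le_of_card_ge ?_
      (card_map_of_injective (MulAut.conj s).injective).ge)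
    rw [hWt, hWT', wq, MonoidHom.map_closure, MonoidHom.map_closure]
    refine closure_mono ?_
    rintro _ ⟨_, ⟨w, ⟨hw, hwq⟩, rfl⟩, rfl⟩
    exact ⟨⟨s, hs.2⟩ * w * ⟨s, hs.2⟩⁻¹,
      ⟨mul_mem (mul_mem (show (⟨s, hs.2⟩ : N) ∈ (T0 : Subgroup N) from hs) hw)
        (inv_mem (show (⟨s, hs.2⟩ : N) ∈ (T0 : Subgroup N) from hs)), hwq.conj _⟩, rfl⟩
  have hnotbad : ¬ Bad S Y z Wt := fun hbad =>
    absurd (hmax Wt hbad) (not_le.2 (mu_lt_of_lt hWlt hTnorm))
  have hreal : ∀ m : N, m ∈ normalizer (WT : Set N) → ∀ A' : Set G, A' ⊆ (Wt : Set G) →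
      Realised H A' (m : G) := by
    intro m hm A' hA'
    by_contra hno'
    have hmW : (m : G) ∈ normalizer (Wt : Set G) := le_normalizer_map N.subtype ⟨m, hm, rfl⟩
    exact hnotbad ⟨hYW.trans hWlt.le, hWTle.trans hTS, 1, one_mem _, by simpa using hWlt.le hzW,
      fun q hq => by simpa using hb.central q (hTS (hWTle hq)), m, hmW, A',
      fun a ha => ⟨hTS (hWTle (hA' ha)), le_normalizer (hA' ha), by
        simpa using hb.central a (hTS (hWTle (hA' ha)))⟩,
      fun a ha => by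
        have h1 : (m : G) * a * (m : G)⁻¹ ∈ Wt := (mem_normalizer_iff.1 hmW a).1 (hA' ha)
        exact ⟨hTS (hWTle h1), by simpa using hb.central _ (hTS (hWTle h1))⟩, hno'⟩
  set ez := cls ⟨z, hzB⟩ with hez
  set E : Submodule (ZMod p) (Additive Bq) :=
    Submodule.span (ZMod p) ((fun m : N => ρ m ez) '' (normalizer (WT : Set N) : Set N)) with hE
  have hezE : ez ∈ E := Submodule.subset_span ⟨1, one_mem _, by simp⟩
  have hTfix : ∀ s : N, s ∈ (T0 : Subgroup N) → ρ s ez = ez := fun s hs =>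
    (hρfix s ⟨z, hzB⟩).2 (mem_CY_symm.1 (hb.central s hs.1))
  have hfix : WT ≤ fixer ρ E := by
    intro q hq e he
    induction he using Submodule.span_induction with
    | mem e he =>
      obtain ⟨m, hm, rfl⟩ := he
      have hq' : m⁻¹ * q * m ∈ WT := by simpa using (mem_normalizer_iff.1 (inv_mem hm) q).1 hq
      show ρ q (ρ m ez) = ρ m ez
      rw [← Module.End.mul_apply, ← map_mul, show q * m = m * (m⁻¹ * q * m) by group, map_mul,
        Module.End.mul_apply, hTfix _ (wq_le ρ _ hq')]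
    | zero => simp
    | add a b _ _ ha hb' => rw [map_add, ha, hb']
    | smul c a _ ha => rw [map_smul, ha]
  have hinv : ∀ n ∈ normalizer (WT : Set N), ∀ e ∈ E, ρ n e ∈ E := by
    intro n hn e he
    induction he using Submodule.span_induction with
    | mem e he =>
      obtain ⟨m, hm, rfl⟩ := he
      exact Submodule.subset_span ⟨n * m, mul_mem hn hm, by simp [map_mul]⟩
    | zero => simp
    | add a b _ _ ha hb' => rw [map_add]; exact add_mem ha hb'
    | smul c a _ ha => rw [map_smul]; exact E.smul_mem c ha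
  have hEZ : ∀ e ∈ E, ∃ b : B, (b : G) ∈ Z ∧ cls b = e := by
    intro e he
    induction he using Submodule.span_induction with
    | mem e he =>
      obtain ⟨m, hm, rfl⟩ := he
      obtain ⟨h, hh, hhe⟩ := hreal m hm {z} (by
        rintro _ rfl
        exact hWlt.le hzW)
      refine ⟨⟨(m : G) * z * (m : G)⁻¹, hBN m m.2 z hzB⟩, ?_, (hρ m ⟨z, hzB⟩).symm⟩
      show (m : G) * z * (m : G)⁻¹ ∈ Z
      rw [← hhe z rfl]
      exact (mem_normalizer_iff.1 hh z).1 hb.mem
    | zero => exact ⟨1, one_mem Z, hcls_one⟩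
    | add a b _ _ ha hb' =>
      obtain ⟨a', ha', rfl⟩ := ha
      obtain ⟨b', hb'', rfl⟩ := hb'
      exact ⟨a' * b', mul_mem ha' hb'', hcls_mul a' b'⟩
    | smul c a _ ha =>
      obtain ⟨a', ha', rfl⟩ := ha
      refine ⟨a' ^ c.val, pow_mem ha' _, ?_⟩
      have hp' : ∀ j : ℕ, cls (a' ^ j) = j • cls a' := fun j => by
        induction j with
        | zero => rw [pow_zero, zero_smul]; exact hcls_one
        | succ j ih => rw [pow_succ, hcls_mul, ih, succ_nsmul]
      rw [hp', ← Nat.cast_smul_eq_nsmul (ZMod p), ZMod.natCast_zmod_val]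
  have hmove : ∃ d, QuadP ρ d ∧ d ∉ fixer ρ E := by
    by_contra hall
    push Not at hall
    refine htW (hTker t htT ?_)
    rw [hB, closure_le]
    rintro b (hb' | ⟨x, hx, rfl⟩)
    · refine mem_CY.2 ?_
      rw [show ⁅b, t⁆ = b * (t * b⁻¹ * t⁻¹) by group]
      exact mul_mem hb' (‹Y.Normal›.conj_mem _ (inv_mem hb') t)
    · set xN : N := ⟨x, hx⟩
      set tN : N := ⟨t, htT.2⟩
      have h1 : ρ (xN⁻¹ * tN * xN) ez = ez := by
        have := hall _ (hquadt.conj xN⁻¹) ez hezE
        rwa [inv_inv] at this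
      have h2 : ρ tN (ρ xN ez) = ρ xN ez := by
        rw [← Module.End.mul_apply, ← map_mul, show tN * xN = xN * (xN⁻¹ * tN * xN) by group,
          map_mul, Module.End.mul_apply, h1]
      rw [hez, hρ, hρfix] at h2
      exact h2
  obtain ⟨Q4, x, h, d, m, hWQ, hQ4, hxQ, hhQ, hm, hhdm, hd, hxquad, ⟨e, heE, he0, hhe⟩, V0, v,
    hV0, hv1, hv2, hv3⟩ := exists_torusData ρ hp u hk T0 W0 hW0p hW0 E hfix hinv hmove
  set Q4G := Q4.map N.subtype with hQ4G
  have hQ4S : ∀ q ∈ Q4, (q : G) ∈ (S : Subgroup G) := fun q hq => (wq_le ρ _ (hQ4 hq)).1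
  obtain ⟨hH, hhH, hhH'⟩ : Realised H (Q4G : Set G) (h : G) := by
    have h1 : Realised H (Q4G : Set G) (m : G) := hreal m hm _ (map_mono hQ4)
    have hdz : (d : G) ∈ CY Y z := mem_CY_symm.1 ((hρfix d ⟨z, hzB⟩).1 (hd ez hezE))
    have h2 := hb.wGood (one_mem H) (g := (d : G)) (by simpa using hdz)
      (A := (fun a => (m : G) * a * (m : G)⁻¹) '' (Q4G : Set G))
      (by
        rintro _ ⟨_, ⟨q, hq, rfl⟩, rfl⟩
        exact (wq_le ρ _ ((mem_normalizer_iff.1 hm q).1 (hQ4 hq))).1)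
      (by
        rintro _ ⟨_, ⟨q, hq, rfl⟩, rfl⟩
        simpa using hb.central _ (wq_le ρ _ ((mem_normalizer_iff.1 hm q).1 (hQ4 hq))).1)
      (by
        rintro _ ⟨_, ⟨q, hq, rfl⟩, rfl⟩
        have h3 := hQ4S _ ((mem_normalizer_iff.1 hhQ q).1 hq)
        rw [hhdm] at h3
        convert h3 using 1
        show (d : G) * ((m : G) * q * (m : G)⁻¹) * (d : G)⁻¹ = _
        simp [mul_assoc])
    have h4 := h1.comp h2
    rwa [← Subgroup.coe_mul, ← hhdm] at h4
  have hBQ : ∀ b ∈ B, b ∈ Q4G := fun b hb' =>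
    ⟨⟨b, le_normalizer (hBW hb')⟩, hWQ (hBW hb'), rfl⟩
  have hconjB : ∀ b ∈ B, hH * b * hH⁻¹ = (h : G) * b * (h : G)⁻¹ := fun b hb' => hhH' b (hBQ b hb')
  refine ⟨?_, ?_⟩
  · -- the section `F(p)`
    let U0 : Subgroup G :=
      { carrier := {b | ∃ hb' : b ∈ B, cls ⟨b, hb'⟩ ∈ V0}
        one_mem' := ⟨one_mem B, by
          show cls 1 ∈ V0
          rw [hcls_one]; exact zero_mem _⟩
        mul_mem' := by
          rintro a b ⟨ha, ha'⟩ ⟨hb', hb''⟩
          refine ⟨mul_mem ha hb', ?_⟩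
          show cls (⟨a, ha⟩ * ⟨b, hb'⟩) ∈ V0
          rw [hcls_mul]; exact add_mem ha' hb''
        inv_mem' := by
          rintro a ⟨ha, ha'⟩
          refine ⟨inv_mem ha, ?_⟩
          have e : cls (⟨a, ha⟩⁻¹ : B) = -cls ⟨a, ha⟩ := by
            rw [eq_neg_iff_add_eq_zero, ← hcls_mul, inv_mul_cancel, hcls_one]
          show cls (⟨a, ha⟩⁻¹ : B) ∈ V0
          rw [e]; exact neg_mem ha' }
    have hU0B : U0 ≤ B := fun b hb' => hb'.1
    have hYU0 : Y ≤ U0 := fun y hy => ⟨hYB hy, by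
      rw [(hcls0 ⟨y, hYB hy⟩).2 hy]; exact zero_mem _⟩
    set M0 := H ⊓ normalizer (U0 : Set G) with hM0
    have hU0inv : ∀ (s : G) (sN : N), (∀ b ∈ B, s * b * s⁻¹ = (sN : G) * b * (sN : G)⁻¹) →
        (∀ w ∈ V0, ρ sN w ∈ V0) → s ∈ normalizer (U0 : Set G) := by
      intro s sN hs hw
      refine mem_normalizer_iff_map_conj_eq.2 (eq_of_le_of_card_ge ?_
        (card_map_of_injective (MulAut.conj s).injective).ge)
      rintro _ ⟨b, ⟨hb', hb''⟩, rfl⟩
      show s * b * s⁻¹ ∈ U0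
      rw [hs b hb']
      exact ⟨hBN sN sN.2 b hb', hρ sN ⟨b, hb'⟩ ▸ hw _ hb''⟩
    have hhM : hH ∈ M0 := mem_inf.2 ⟨hhH, hU0inv hH h hconjB fun w hw => (hV0 w hw).2⟩
    have hxM : (x : G) ∈ M0 := mem_inf.2 ⟨sylow_le_normalizer S (hQ4S x hxQ),
      hU0inv x x (fun _ _ => rfl) fun w hw => (hV0 w hw).1⟩
    have hBM : B ≤ M0 := fun b hb' => mem_inf.2 ⟨sylow_le_normalizer S (hWS (hBW hb')),
      hU0inv b ⟨b, le_normalizer (hBW hb')⟩ (fun _ _ => rfl) fun w hw => by
        rw [hW0 _ (show (⟨b, le_normalizer (hBW hb')⟩ : N) ∈ W0 from hBW hb')]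
        exact hw⟩
    haveI : (U0.subgroupOf M0).Normal :=
      ⟨fun a ha s => (mem_normalizer_iff.1 s.2.2 (a : G)).1 ha⟩
    let q := QuotientGroup.mk' (U0.subgroupOf M0)
    choose sec hsec using hcls_surj
    let Θ : Additive Bq → ↥M0 ⧸ U0.subgroupOf M0 := fun w => q ⟨(sec w : B), hBM (sec w).2⟩
    have hΘ : ∀ b : B, Θ (cls b) = q ⟨(b : G), hBM b.2⟩ := fun b => by
      refine QuotientGroup.eq.2 ?_
      rw [mem_subgroupOf]
      exact hYU0 ((hcls_eq _ _).1 (hsec (cls b)))
    have hΘadd : ∀ a b, Θ (a + b) = Θ a * Θ b := fun a b => by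
      conv_lhs => rw [← hsec a, ← hsec b, ← hcls_mul, hΘ]
      exact map_mul q ⟨(sec a : B), hBM (sec a).2⟩ ⟨(sec b : B), hBM (sec b).2⟩
    have hΘker : ∀ a, Θ a = 1 ↔ a ∈ V0 := fun a => by
      rw [show Θ a = q ⟨(sec a : B), hBM (sec a).2⟩ from rfl, QuotientGroup.mk'_apply,
        QuotientGroup.eq_one_iff, mem_subgroupOf]
      constructor
      · rintro ⟨_, h'⟩
        rwa [hsec a] at h'
      · intro h'
        exact ⟨(sec a).2, (hsec a).symm ▸ h'⟩
    have hΘsub : ∀ a b, a - b ∈ V0 → Θ a = Θ b := fun a b hab => by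
      rw [← sub_add_cancel a b, hΘadd, (hΘker _).2 hab, one_mul]
    have hΘconj : ∀ (s : M0) (sN : N), (∀ b ∈ B, (s : G) * b * (s : G)⁻¹ = (sN : G) * b * (sN : G)⁻¹)
        → ∀ a, q s * Θ a * (q s)⁻¹ = Θ (ρ sN a) := by
      intro s sN hs a
      conv_rhs => rw [← hsec a, hρ, hΘ]
      rw [show Θ a = q ⟨(sec a : B), hBM (sec a).2⟩ from rfl, ← map_inv, ← map_mul, ← map_mul]
      exact congrArg q (Subtype.ext (hs _ (sec a).2))
    have hx2 : ∀ w, ρ x (ρ x w - w) = ρ x w - w := fun w => by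
      have := LinearMap.congr_fun hxquad.2 w
      simpa [sub_eq_zero] using this
    let u0 := ρ x v - v
    let ψ : (Fin 2 → ZMod p) → ↥M0 ⧸ U0.subgroupOf M0 := fun c => Θ (c 0 • u0 + c 1 • v)
    have hψadd : ∀ a b, ψ (a + b) = ψ a * ψ b := fun a b => by
      show Θ _ = Θ _ * Θ _
      rw [← hΘadd]
      congr 1
      simp only [Pi.add_apply, add_smul]
      abel
    have hψinj : Function.Injective ψ := by
      intro a b hab
      have hab' : Θ ((a - b) 0 • u0 + (a - b) 1 • v) = 1 := by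
        have h1 : ψ (a - b) * ψ b = ψ a := by rw [← hψadd, sub_add_cancel]
        show ψ (a - b) = 1
        rw [hab] at h1
        exact mul_eq_right.1 h1
      rw [hΘker] at hab'
      have h1 : (a - b) 1 • u0 ∈ V0 := by
        have h2 := sub_mem (hV0 _ hab').1 hab'
        rw [map_add, map_smul, map_smul, hx2 v, add_sub_add_left_eq_sub, ← smul_sub] at h2
        exact h2
      have h2 : (a - b) 1 = 0 := by
        by_contra hne
        exact hv1 ((Submodule.smul_mem_iff V0 hne).1 h1)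
      rw [h2, zero_smul, add_zero] at hab'
      have h3 : (a - b) 0 = 0 := by
        by_contra hne
        exact hv1 ((Submodule.smul_mem_iff V0 hne).1 hab')
      funext i
      have : (a - b) i = 0 := by fin_cases i <;> assumption
      exact sub_eq_zero.1 this
    have hInv : InvHom ↥(fOver (ZMod p)) (↥M0 ⧸ U0.subgroupOf M0) := by
      refine invHom_fOver_of_pair hp u hu ψ hψinj hψadd (q ⟨x, hxM⟩) (q ⟨hH, hhM⟩)
        (fun c => ?_) fun c => ?_
      · show _ * Θ _ * _ = Θ _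
        rw [hΘconj ⟨x, hxM⟩ x (fun _ _ => rfl)]
        congr 1
        rw [map_add, map_smul, map_smul, hx2 v, show ρ x v = u0 + v from (sub_add_cancel _ _).symm]
        simp only [CfsgLib.Classical.uSL_coe, Matrix.mulVec, dotProduct, Fin.sum_univ_two]
        simp [add_smul, add_assoc]
      · show _ * Θ _ * _ = Θ _
        rw [hΘconj ⟨hH, hhM⟩ h hconjB]
        refine hΘsub _ _ ?_
        have e0 : ((torus u).1.mulVec c) 0 = (u : ZMod p) * c 0 := by
          simp [Matrix.mulVec, dotProduct, Fin.sum_univ_two, torus_00, torus_01]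
        have e1 : ((torus u).1.mulVec c) 1 = (↑u⁻¹ : ZMod p) * c 1 := by
          simp [Matrix.mulVec, dotProduct, Fin.sum_univ_two, torus_10, torus_11,
            -Units.val_inv_eq_inv_val]
        rw [e0, e1, map_add, map_smul, map_smul, mul_smul, mul_smul, smul_comm (u : ZMod p) (c 0),
          smul_comm (↑u⁻¹ : ZMod p) (c 1), add_sub_add_comm, ← smul_sub, ← smul_sub]
        exact add_mem (V0.smul_mem _ hv3) (V0.smul_mem _ hv2)
    have hM0H : M0 ≤ H := inf_le_left
    exact InvHom.of_subgroup (S := M0.subgroupOf H)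
      (InvHom.of_surjective (subgroupOfEquivOfLe hM0H).toMonoidHom
        (subgroupOfEquivOfLe hM0H).surjective
        (InvHom.of_surjective q (QuotientGroup.mk'_surjective _) hInv))
  · -- the subgroup of order `p`
    obtain ⟨b, hbZ, rfl⟩ := hEZ e heE
    set a : ℕ := (u : ZMod p).val with ha
    have hpow : ∀ j : ℕ, cls (b ^ j) = j • cls b := fun j => by
      induction j with
      | zero => rw [pow_zero, zero_smul]; exact hcls_one
      | succ j ih => rw [pow_succ, hcls_mul, ih, succ_nsmul]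
    have hbY : ((b : G) ^ a)⁻¹ * ((h : G) * b * (h : G)⁻¹) ∈ Y := by
      have h1 : cls (b ^ a) = cls ⟨(h : G) * b * (h : G)⁻¹, hBN h h.2 b b.2⟩ := by
        rw [hpow, ← hρ, hhe, ← Nat.cast_smul_eq_nsmul (ZMod p), ha, ZMod.natCast_zmod_val]
      exact (hcls_eq _ _).1 h1
    have hZc : ∀ c ∈ Z, ∀ d ∈ Z, c * d = d * c := fun c hc d hd =>
      (mem_centralizer_iff.1 (mem_inf.1 hd).2 c (mem_inf.1 hc).1)
    let f : Z → Z := fun c => ⟨hH * c * hH⁻¹ * ((c : G) ^ a)⁻¹,
      mul_mem ((mem_normalizer_iff.1 hhH _).1 c.2) (inv_mem (pow_mem c.2 a))⟩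
    have hf : ∀ c, ((f c : Z) : G) = hH * c * hH⁻¹ * ((c : G) ^ a)⁻¹ := fun c => rfl
    have hfmul : ∀ c d, f (c * d) = f c * f d := fun c d => Subtype.ext (by
      rw [Subgroup.coe_mul, hf, hf, hf, Subgroup.coe_mul,
        (show Commute (c : G) d from hZc c c.2 d d.2).mul_pow, mul_inv_rev]
      have h1 : hH * c * hH⁻¹ ∈ Z := (mem_normalizer_iff.1 hhH _).1 c.2
      have h2 : hH * d * hH⁻¹ ∈ Z := (mem_normalizer_iff.1 hhH _).1 d.2
      have h3 : ((c : G) ^ a)⁻¹ ∈ Z := inv_mem (pow_mem c.2 a)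
      have h4 : ((d : G) ^ a)⁻¹ ∈ Z := inv_mem (pow_mem d.2 a)
      calc hH * (↑c * ↑d) * hH⁻¹ * (((d : G) ^ a)⁻¹ * ((c : G) ^ a)⁻¹)
          = hH * c * hH⁻¹ * ((hH * d * hH⁻¹ * ((d : G) ^ a)⁻¹) * ((c : G) ^ a)⁻¹) := by group
        _ = hH * c * hH⁻¹ * (((c : G) ^ a)⁻¹ * (hH * d * hH⁻¹ * ((d : G) ^ a)⁻¹)) := by
            rw [hZc _ (mul_mem h2 h4) _ h3]
        _ = _ := by group)
    let F : Z →* Z := MonoidHom.mk' f hfmul
    have hYc : ∀ c : Z, (c : G) ∈ Y → (F c : G) ∈ Y := fun c hc =>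
      mul_mem (‹Y.Normal›.conj_mem _ hc hH) (inv_mem (pow_mem hc a))
    have hFb : (F ⟨b, hbZ⟩ : G) ∈ Y := by
      show hH * b * hH⁻¹ * ((b : G) ^ a)⁻¹ ∈ Y
      rw [hconjB b b.2]
      have := ‹Y.Normal›.conj_mem _ hbY ((b : G) ^ a)
      convert this using 1
      group
    obtain ⟨c, hc1, hc⟩ : ∃ c : Z, c ≠ 1 ∧ F c = 1 := by
      by_contra hinj'
      push Not at hinj'
      have hinj : Function.Injective F := (injective_iff_map_eq_one F).2 fun c hc => by
        by_contra hne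
        exact hinj' c hne hc
      let F' : Y.subgroupOf Z → Y.subgroupOf Z := fun c => ⟨F c, hYc c c.2⟩
      have hF' : Function.Injective F' := fun a b hab =>
        Subtype.ext (hinj (congrArg Subtype.val hab))
      obtain ⟨c, hc⟩ := Finite.surjective_of_injective hF' ⟨F ⟨b, hbZ⟩, hFb⟩
      have heq := congrArg Subtype.val (hinj (congrArg Subtype.val hc))
      refine he0 ((hcls0 b).2 ?_)
      have h1 := mem_subgroupOf.1 c.2
      rwa [heq] at h1
    have hce : hH * c * hH⁻¹ = (c : G) ^ a := by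
      have := congrArg Subtype.val hc
      rw [OneMemClass.coe_one] at this
      exact mul_inv_eq_one.1 this
    obtain ⟨j, hj⟩ := IsPGroup.iff_orderOf.1 (S.isPGroup'.to_le (zj_le S)) c
    rw [← orderOf_coe] at hj
    have hj0 : j ≠ 0 := fun h0 => hc1 (Subtype.ext (orderOf_eq_one_iff.1 (by rw [hj, h0, pow_zero])))
    refine ⟨(c : G) ^ p ^ (j - 1), pow_mem c.2 _, ?_, hH, hhH, ?_⟩
    · rw [orderOf_pow' _ (pow_ne_zero _ (Fact.out : p.Prime).ne_zero), hj,
        Nat.gcd_eq_right (pow_dvd_pow _ (Nat.sub_le j 1)), Nat.pow_div (Nat.sub_le j 1)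
          (Fact.out : p.Prime).pos]
      rw [show j - (j - 1) = 1 by omega, pow_one]
    · rw [← conj_pow, hce, ← pow_mul, ← pow_mul, mul_comm]

/-- Failure of control of strong fusion gives the conclusion. -/
theorem concl_of_fail (hp : p ≠ 2) (u : (ZMod p)ˣ) (hu : ∀ w : (ZMod p)ˣ, ∃ n : ℕ, u ^ n = w)
    {k : ℕ} (hk : u ^ k = -1) : ∀ (m : ℕ) (G : Type u) [Group G] [Finite G], Nat.card G = m →
    ∀ (S : Sylow p G) (A : Set G) (g : G), A ⊆ (S : Subgroup G) →
      (∀ a ∈ A, g * a * g⁻¹ ∈ (S : Subgroup G)) →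
      ¬ Realised (normalizer (centerThompsonAOf (S : Subgroup G) : Set G)) A g → Concl S u := by
  intro m
  induction m using Nat.strong_induction_on with
  | _ m ih =>
  intro G _ _ hm S A g hA hgA hno
  classical
  set Z := centerThompsonAOf (S : Subgroup G) with hZ
  set H := normalizer (Z : Set G) with hH
  set Y := Z.normalCore with hY
  haveI : Y.Normal := normalCore_normal Z
  have hYZ : Y ≤ Z := normalCore_le Z
  have hZY : ¬ Z ≤ Y := by
    intro h
    haveI : Z.Normal := le_antisymm hYZ h ▸ (inferInstance : Y.Normal)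
    refine hno (Realised.of_mem ?_)
    rw [hH, normalizer_eq_top]
    exact mem_top g
  let π := QuotientGroup.mk' Y
  set Sq := (S : Subgroup G).map π with hSq
  set Zq := Z.map π with hZq
  have hSqp : IsPGroup p Sq := S.isPGroup'.map π
  -- a nontrivial central element of order `p` in `Z / Y`
  obtain ⟨z, hzZ, hzY, hzp, hzS⟩ : ∃ z ∈ Z, z ∉ Y ∧ z ^ p ∈ Y ∧
      ∀ s ∈ (S : Subgroup G), s ∈ CY Y z := by
    have hZS : Zq ≤ Sq := map_mono (zj_le S)
    set Zs := Zq.subgroupOf Sq with hZs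
    haveI : Zs.Normal := by
      refine ⟨?_⟩
      rintro n hn ⟨_, s, hs, rfl⟩
      obtain ⟨z, hz, e⟩ := mem_subgroupOf.1 hn
      refine mem_subgroupOf.2 ⟨s * z * s⁻¹, (mem_normalizer_iff.1 (sylow_le_normalizer S hs) z).1 hz, ?_⟩
      simp [e]
    have hne : Zs ≠ ⊥ := by
      intro hb'
      refine hZY fun x hx => ?_
      have h1 : (⟨π x, hZS (mem_map_of_mem π hx)⟩ : Sq) ∈ Zs := mem_subgroupOf.2 (mem_map_of_mem π hx)
      rw [hb', mem_bot] at h1
      exact (QuotientGroup.eq_one_iff x).1 (congrArg Subtype.val h1)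
    haveI : Group.IsNilpotent Sq := hSqp.isNilpotent
    haveI : Nontrivial ↥(Zs ⊓ center Sq) := by
      rw [nontrivial_iff_ne_bot]
      exact CfsgLib.Base.inf_center_ne_bot_of_isNilpotent hne
    have hpZ : IsPGroup p ↥(Zs ⊓ center Sq) := hSqp.to_subgroup _
    obtain ⟨j, hj, hcard⟩ := hpZ.nontrivial_iff_card.1 inferInstance
    obtain ⟨w, hw⟩ := exists_prime_orderOf_dvd_card' (G := ↥(Zs ⊓ center Sq)) p
      (by rw [hcard]; exact dvd_pow_self p hj.ne')
    obtain ⟨z, hz, e⟩ := mem_subgroupOf.1 w.2.1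
    refine ⟨z, hz, fun h => ?_, ?_, fun s hs => mem_CY.2 ?_⟩
    · have hw1 : w = 1 := Subtype.ext (Subtype.ext (e.symm.trans ((QuotientGroup.eq_one_iff z).2 h)))
      rw [hw1, orderOf_one] at hw
      exact (Fact.out : p.Prime).ne_one hw.symm
    · rw [← QuotientGroup.eq_one_iff, ← QuotientGroup.mk'_apply, map_pow, e]
      have := pow_orderOf_eq_one w
      rw [hw] at this
      exact congrArg (fun w : ↥(Zs ⊓ center Sq) => ((w : Sq) : G ⧸ Y)) this
    · rw [← QuotientGroup.eq_one_iff, ← QuotientGroup.mk'_apply, map_commutatorElement,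
        commutatorElement_eq_one_iff_mul_comm, e]
      exact congrArg Subtype.val (mem_center_iff.1 w.2.2 ⟨π s, mem_map_of_mem π hs⟩)
  have hG1 : CY Y z ≠ ⊤ := by
    intro htop
    set Y' := Y ⊔ zpowers z
    haveI : Y'.Normal := by
      refine ⟨fun n hn g => ?_⟩
      have hle : Y'.map (MulAut.conj g).toMonoidHom ≤ Y' := by
        rw [Subgroup.map_sup]
        refine sup_le (le_sup_of_le_left ?_) ?_
        · rintro _ ⟨y, hy, rfl⟩
          exact ‹Y.Normal›.conj_mem y hy g
        · rw [MonoidHom.map_zpowers, zpowers_le]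
          show g * z * g⁻¹ ∈ Y'
          have h1 : g ∈ CY Y z := htop ▸ mem_top g
          rw [show g * z * g⁻¹ = ⁅g, z⁆ * z by group]
          exact mul_mem (le_sup_left (b := zpowers z) (mem_CY.1 h1))
            (le_sup_right (a := Y) (mem_zpowers z))
      exact hle ⟨n, hn, rfl⟩
    have hle : Y' ≤ Y := normal_le_normalCore.2 (sup_le hYZ (zpowers_le.2 hzZ))
    exact hzY (hle (le_sup_right (a := Y) (mem_zpowers z)))
  by_cases hgood : ∀ x ∈ CY Y z, ∀ A : Set G, A ⊆ (S : Subgroup G) →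
      (∀ a ∈ A, x * a * x⁻¹ ∈ (S : Subgroup G)) → Realised H A x
  · have hb : Base S Y z := ⟨hYZ, hzZ, hzS, hzp, hzY, hgood⟩
    obtain ⟨cf⟩ := hb.exists_config hA hgA hno
    exact core hp hb cf u hu hk
  -- induction
  push Not at hgood
  obtain ⟨x, hx, A1, hA1, hxA, hno1⟩ := hgood
  set G1 := CY Y z with hG1'
  have hSG : (S : Subgroup G) ≤ G1 := hzS
  let S1 : Sylow p G1 := S.subtype hSG
  have hmap : (centerThompsonAOf (S1 : Subgroup G1)).map G1.subtype = Z := by
    rw [CfsgLib.Fusion.map_centerJAOf G1.subtype_injective, Sylow.coe_subtype,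
      map_subgroupOf_eq_of_le hSG]
  have hnorm : (normalizer (centerThompsonAOf (S1 : Subgroup G1) : Set G1)).map G1.subtype ≤ H := by
    rintro _ ⟨w, hw, rfl⟩
    rw [hH, ← hmap]
    exact le_normalizer_map G1.subtype ⟨w, hw, rfl⟩
  have hcard : Nat.card G1 < m := by
    rw [← hm]
    simpa using CfsgLib.Transfer.card_lt_card_of_lt (lt_top_iff_ne_top.2 hG1)
  obtain ⟨hI, v, hv, hvo, hh, hhH, hve⟩ := ih _ hcard G1 rfl S1 ((fun a : G1 => (a : G)) ⁻¹' A1)
    ⟨x, hx⟩ (fun a ha => hA1 ha) (fun a ha => hxA _ ha) (by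
      rintro ⟨h, hh, he⟩
      exact hno1 ⟨h, hnorm ⟨h, hh, rfl⟩, fun a ha =>
        congrArg Subtype.val (he ⟨a, hSG (hA1 ha)⟩ ha)⟩)
  refine ⟨?_, v, hmap.le (mem_map_of_mem G1.subtype hv), by rw [← hvo, orderOf_coe], hh,
    hnorm ⟨hh, hhH, rfl⟩, congrArg Subtype.val hve⟩
  set N1 := normalizer (centerThompsonAOf (S1 : Subgroup G1) : Set G1) with hN1
  let e := N1.equivMapOfInjective G1.subtype G1.subtype_injective
  have h1 : InvHom ↥(fOver (ZMod p)) ↥(N1.map G1.subtype) :=
    InvHom.of_surjective e.symm.toMonoidHom e.symm.surjective hI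
  exact InvHom.of_subgroup (S := (N1.map G1.subtype).subgroupOf H)
    (InvHom.of_surjective (subgroupOfEquivOfLe hnorm).toMonoidHom
      (subgroupOfEquivOfLe hnorm).surjective h1)

end CfsgLib.FpFailure
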