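import Cfsg.Agent.Lib.Transfer.Alperin
import Cfsg.Agent.Lib.Transfer.ZJComplement
import Cfsg.Agent.Lib.PLocal.Frattini

/-!
A maximal local subgroup whose fusion is not realised in `N(Z(J(S)))`.
-/

set_option autoImplicit false
set_option linter.unusedSectionVars false
set_option linter.style.haveILetI false

namespace CfsgLib.FpFailure

open Subgroup Cfsg
open scoped commutatorElement

variable {p : ℕ} [Fact p.Prime] {G : Type*} [Group G] [Finite G]

/-- The element `g` acts on `A` as an element of `H`. -/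
def Realised (H : Subgroup G) (A : Set G) (g : G) : Prop :=
  ∃ h ∈ H, ∀ a ∈ A, h * a * h⁻¹ = g * a * g⁻¹

theorem Realised.of_mem {H : Subgroup G} {A : Set G} {g : G} (hg : g ∈ H) : Realised H A g :=
  ⟨g, hg, fun _ _ => rfl⟩

theorem Realised.mono {H : Subgroup G} {A B : Set G} {g : G} (h : Realised H A g) (hBA : B ⊆ A) :
    Realised H B g :=
  let ⟨x, hx, he⟩ := h; ⟨x, hx, fun a ha => he a (hBA ha)⟩

theorem Realised.comp {H : Subgroup G} {A : Set G} {g k : G} (h : Realised H A g)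
    (h' : Realised H ((fun a => g * a * g⁻¹) '' A) k) : Realised H A (k * g) := by
  obtain ⟨x, hx, he⟩ := h
  obtain ⟨y, hy, he'⟩ := h'
  refine ⟨y * x, mul_mem hy hx, fun a ha => ?_⟩
  calc y * x * a * (y * x)⁻¹ = y * (x * a * x⁻¹) * y⁻¹ := by group
    _ = k * (g * a * g⁻¹) * k⁻¹ := by rw [he a ha, he' _ ⟨a, ha, rfl⟩]
    _ = _ := by group

/-- The centraliser of `w` modulo `Y`. -/
def CY (Y : Subgroup G) [Y.Normal] (w : G) : Subgroup G :=
  (centralizer ({QuotientGroup.mk' Y w} : Set (G ⧸ Y))).comap (QuotientGroup.mk' Y)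

theorem mem_CY {Y : Subgroup G} [Y.Normal] {w g : G} : g ∈ CY Y w ↔ ⁅g, w⁆ ∈ Y := by
  rw [CY, mem_comap, mem_centralizer_singleton_iff, ← commutatorElement_eq_one_iff_mul_comm,
    ← map_commutatorElement, QuotientGroup.mk'_apply, QuotientGroup.eq_one_iff]

theorem conj_mem_CY {Y : Subgroup G} [Y.Normal] {w g : G} (n : G) (hg : g ∈ CY Y w) :
    n * g * n⁻¹ ∈ CY Y (n * w * n⁻¹) := by
  rw [mem_CY] at hg ⊢
  rw [← conjugate_commutatorElement]
  exact ‹Y.Normal›.conj_mem _ hg n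

/-- The standing data. -/
structure Base (S : Sylow p G) (Y : Subgroup G) [Y.Normal] (z : G) : Prop where
  le : Y ≤ centerThompsonAOf (S : Subgroup G)
  mem : z ∈ centerThompsonAOf (S : Subgroup G)
  central : ∀ s ∈ (S : Subgroup G), s ∈ CY Y z
  pow : z ^ p ∈ Y
  not_mem : z ∉ Y
  good : ∀ g ∈ CY Y z, ∀ A : Set G, A ⊆ (S : Subgroup G) →
    (∀ a ∈ A, g * a * g⁻¹ ∈ (S : Subgroup G)) →
      Realised (normalizer (centerThompsonAOf (S : Subgroup G) : Set G)) A g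

variable {S : Sylow p G} {Y : Subgroup G} [Y.Normal] {z : G}

theorem zj_le (S : Sylow p G) : centerThompsonAOf (S : Subgroup G) ≤ (S : Subgroup G) :=
  (CfsgLib.Transfer.subgroupFunctor_centerThompsonAOf (p := p)).le G (S : Subgroup G)

theorem normalizer_sylow_le (S : Sylow p G) :
    normalizer ((S : Subgroup G) : Set G) ≤ normalizer (centerThompsonAOf (S : Subgroup G) : Set G) :=
  (CfsgLib.Transfer.subgroupFunctor_centerThompsonAOf (p := p)).normalizer_le _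

theorem sylow_le_normalizer (S : Sylow p G) :
    (S : Subgroup G) ≤ normalizer (centerThompsonAOf (S : Subgroup G) : Set G) :=
  le_normalizer.trans (normalizer_sylow_le S)

/-- Fusion inside the centraliser of a conjugate of `z` modulo `Y` is realised. -/
theorem Base.wGood (hb : Base S Y z) {n : G}
    (hn : n ∈ normalizer (centerThompsonAOf (S : Subgroup G) : Set G))
    {g : G} (hg : g ∈ CY Y (n * z * n⁻¹)) {A : Set G} (hA : ∀ a ∈ A, a ∈ (S : Subgroup G))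
    (hAw : ∀ a ∈ A, a ∈ CY Y (n * z * n⁻¹)) (hgA : ∀ a ∈ A, g * a * g⁻¹ ∈ (S : Subgroup G)) :
    Realised (normalizer (centerThompsonAOf (S : Subgroup G) : Set G)) A g := by
  set H := normalizer (centerThompsonAOf (S : Subgroup G) : Set G) with hH
  set M := H ⊓ CY Y z with hM
  have hSM : (S : Subgroup G) ≤ M := le_inf (sylow_le_normalizer S) hb.central
  have hstep : ∀ B : Set G, (∀ b ∈ B, b ∈ (S : Subgroup G)) → (∀ b ∈ B, b ∈ CY Y (n * z * n⁻¹)) →
      ∃ c ∈ M, ∀ b ∈ B, c * (n⁻¹ * b * n) * c⁻¹ ∈ (S : Subgroup G) := by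
    intro B hB hBw
    set P0 := (closure B).map (MulAut.conj n⁻¹).toMonoidHom with hP0
    have hP0M : P0 ≤ M := by
      rw [hP0, MonoidHom.map_closure, closure_le]
      rintro _ ⟨b, hb', rfl⟩
      refine ⟨?_, ?_⟩
      · show n⁻¹ * b * n⁻¹⁻¹ ∈ H
        exact mul_mem (mul_mem (inv_mem hn) (sylow_le_normalizer S (hB b hb')))
          (inv_mem (inv_mem hn))
      · have := conj_mem_CY n⁻¹ (hBw b hb')
        rwa [show n⁻¹ * (n * z * n⁻¹) * n⁻¹⁻¹ = z by group] at this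
    have hp0 : IsPGroup p P0 := (S.isPGroup'.to_le ((closure_le _).2 hB)).map _
    obtain ⟨P1, hP1⟩ := (hp0.comap_of_injective M.subtype M.subtype_injective).exists_le_sylow
    obtain ⟨c, hc⟩ := MulAction.exists_smul_eq M P1 (S.subtype hSM)
    refine ⟨c, c.2, fun b hb' => ?_⟩
    have hmem : n⁻¹ * b * n ∈ P0 :=
      ⟨b, subset_closure hb', by show n⁻¹ * b * n⁻¹⁻¹ = _; rw [inv_inv]⟩
    have h1 : c * ⟨_, hP0M hmem⟩ * c⁻¹ ∈ (S.subtype hSM : Subgroup M) := by
      rw [← hc]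
      refine CfsgLib.Transfer.mem_coe_smul_sylow_iff.2 ?_
      rw [show c⁻¹ * (c * (⟨_, hP0M hmem⟩ : M) * c⁻¹) * c = ⟨_, hP0M hmem⟩ by group]
      exact hP1 hmem
    rw [Sylow.coe_subtype, mem_subgroupOf] at h1
    exact h1
  obtain ⟨c, hc, hcA⟩ := hstep A hA hAw
  obtain ⟨c', hc', hcB⟩ := hstep ((fun a => g * a * g⁻¹) '' A)
    (by rintro _ ⟨a, ha, rfl⟩; exact hgA a ha)
    (by rintro _ ⟨a, ha, rfl⟩; exact mul_mem (mul_mem hg (hAw a ha)) (inv_mem hg))
  have hk : c' * (n⁻¹ * g * n) * c⁻¹ ∈ CY Y z := by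
    refine mul_mem (mul_mem hc'.2 ?_) (inv_mem hc.2)
    have := conj_mem_CY n⁻¹ hg
    rwa [show n⁻¹ * (n * z * n⁻¹) * n⁻¹⁻¹ = z by group, inv_inv] at this
  obtain ⟨h, hh, he⟩ := hb.good _ hk ((fun a => c * (n⁻¹ * a * n) * c⁻¹) '' A)
    (by rintro _ ⟨a, ha, rfl⟩; exact hcA a ha)
    (by
      rintro _ ⟨a, ha, rfl⟩
      have := hcB _ ⟨a, ha, rfl⟩
      convert this using 1
      group)
  refine ⟨n * c'⁻¹ * h * c * n⁻¹, mul_mem (mul_mem (mul_mem (mul_mem hn (inv_mem hc'.1)) hh) hc.1)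
    (inv_mem hn), fun a ha => ?_⟩
  have h1 := he _ ⟨a, ha, rfl⟩
  calc n * c'⁻¹ * h * c * n⁻¹ * a * (n * c'⁻¹ * h * c * n⁻¹)⁻¹
      = n * c'⁻¹ * (h * (c * (n⁻¹ * a * n) * c⁻¹) * h⁻¹) * c' * n⁻¹ := by group
    _ = _ := by rw [h1]; group

/-- A local subgroup with fusion that is not realised. -/
def Bad (S : Sylow p G) (Y : Subgroup G) [Y.Normal] (z : G) (W : Subgroup G) : Prop :=
  Y ≤ W ∧ W ≤ (S : Subgroup G) ∧
    ∃ n ∈ normalizer (centerThompsonAOf (S : Subgroup G) : Set G),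
      n * z * n⁻¹ ∈ W ∧ W ≤ CY Y (n * z * n⁻¹) ∧
      ∃ g ∈ normalizer (W : Set G), ∃ A : Set G,
        (∀ a ∈ A, a ∈ (S : Subgroup G) ∧ a ∈ normalizer (W : Set G) ∧ a ∈ CY Y (n * z * n⁻¹)) ∧
        (∀ a ∈ A, g * a * g⁻¹ ∈ (S : Subgroup G) ∧ g * a * g⁻¹ ∈ CY Y (n * z * n⁻¹)) ∧
        ¬ Realised (normalizer (centerThompsonAOf (S : Subgroup G) : Set G)) A g

/-- Adjoin `z` to a subgroup, keeping the local fusion. -/
theorem Base.enlarge (hb : Base S Y z) {R : Subgroup G} (hR : R ≤ (S : Subgroup G)) (hY : Y ≤ R)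
    (hT : ¬ p ∣ ((S : Subgroup G) ⊓ normalizer (R : Set G)).relIndex (normalizer (R : Set G))) :
    ∃ Q : Subgroup G, R ≤ Q ∧ Q ≤ (S : Subgroup G) ⊓ normalizer (R : Set G) ∧ z ∈ Q ∧
      (S : Subgroup G) ⊓ normalizer (R : Set G) ≤ normalizer (Q : Set G) ∧
      (∀ w ∈ R, R ≤ CY Y w → Q ≤ CY Y w) ∧
      ∀ g ∈ normalizer (R : Set G), ∃ c ∈ centralizer (R : Set G), ∃ n,
        n ∈ normalizer (Q : Set G) ∧ n ∈ normalizer (R : Set G) ∧ g = c * n := by
  classical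
  have hYab : ∀ a ∈ centerThompsonAOf (S : Subgroup G), ∀ b ∈ centerThompsonAOf (S : Subgroup G),
      a * b = b * a := fun a ha b hb' => mem_centralizer_iff.1 (mem_inf.1 hb').2 a (mem_inf.1 ha).1
  let K1 : Subgroup G :=
    { carrier := {x | x ∈ normalizer (R : Set G) ∧ (∀ r ∈ R, ⁅x, r⁆ ∈ Y) ∧ ∀ r ∈ Y, x * r = r * x}
      one_mem' := ⟨one_mem _, fun r _ => by simp, fun r _ => by simp⟩
      mul_mem' := by
        rintro x y ⟨hx1, hx2, hx3⟩ ⟨hy1, hy2, hy3⟩
        refine ⟨mul_mem hx1 hy1, fun r hr => ?_, fun r hr => ?_⟩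
        · rw [show ⁅x * y, r⁆ = x * ⁅y, r⁆ * x⁻¹ * ⁅x, r⁆ by group]
          exact mul_mem (‹Y.Normal›.conj_mem _ (hy2 r hr) x) (hx2 r hr)
        · rw [mul_assoc, hy3 r hr, ← mul_assoc, hx3 r hr, mul_assoc]
      inv_mem' := by
        rintro x ⟨hx1, hx2, hx3⟩
        refine ⟨inv_mem hx1, fun r hr => ?_, fun r hr => ?_⟩
        · rw [show ⁅x⁻¹, r⁆ = x⁻¹ * ⁅x, r⁆⁻¹ * x⁻¹⁻¹ by group]
          exact ‹Y.Normal›.conj_mem _ (inv_mem (hx2 r hr)) _
        · exact (Commute.inv_left (hx3 r hr)).eq }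
  have hzS : z ∈ (S : Subgroup G) := zj_le S hb.mem
  have hzR : ∀ r ∈ R, ⁅z, r⁆ ∈ Y := fun r hr => by
    rw [← commutatorElement_inv]; exact inv_mem (mem_CY.1 (hb.central r (hR hr)))
  have hzN : z ∈ normalizer (R : Set G) := by
    refine mem_normalizer_iff_map_conj_eq.2 (eq_of_le_of_card_ge ?_
      (card_map_of_injective (MulAut.conj z).injective).ge)
    rintro _ ⟨r, hr, rfl⟩
    show z * r * z⁻¹ ∈ R
    rw [show z * r * z⁻¹ = ⁅z, r⁆ * r by group]
    exact mul_mem (hY (hzR r hr)) hr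
  have hzK : z ∈ K1 := ⟨hzN, hzR, fun r hr => hYab z hb.mem r (hb.le hr)⟩
  set N := normalizer (R : Set G) with hN
  let π := (N).subtype
  set Tn := ((S : Subgroup G) ⊓ N).subgroupOf N with hTn
  let T0 : Sylow p N := ((S.isPGroup'.to_le (inf_le_left : (S : Subgroup G) ⊓ N ≤ _)).comap_subtype).toSylow
    (by
      have : ((S : Subgroup G) ⊓ N).relIndex N = (((S : Subgroup G) ⊓ N).subgroupOf N).index := rfl
      rwa [this] at hT)
  set K := (K1 ⊔ R).subgroupOf N with hK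
  have hK1N : K1 ≤ N := fun x hx => hx.1
  have hKle : K1 ⊔ R ≤ N := sup_le hK1N le_normalizer
  haveI hKn : K.Normal := by
    refine ⟨fun x hx m => ?_⟩
    rw [hK, mem_subgroupOf] at hx ⊢
    have hmap : (K1 ⊔ R).map (MulAut.conj (m : G)).toMonoidHom ≤ K1 ⊔ R := by
      rw [Subgroup.map_sup]
      refine sup_le_sup ?_ (mem_normalizer_iff_map_conj_eq.1 m.2).le
      rintro _ ⟨x, ⟨hx1, hx2, hx3⟩, rfl⟩
      refine ⟨mul_mem (mul_mem m.2 hx1) (inv_mem m.2), fun r hr => ?_, fun r hr => ?_⟩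
      · have hr' : (m : G)⁻¹ * r * (m : G) ∈ R := by
          simpa using (mem_normalizer_iff.1 (inv_mem m.2) r).1 hr
        show ⁅(m : G) * x * (m : G)⁻¹, r⁆ ∈ Y
        rw [show ⁅(m : G) * x * (m : G)⁻¹, r⁆ = (m : G) * ⁅x, (m : G)⁻¹ * r * (m : G)⁆ * (m : G)⁻¹ by
          group]
        exact ‹Y.Normal›.conj_mem _ (hx2 _ hr') _
      · have hr' : (m : G)⁻¹ * r * (m : G) ∈ Y := by
          simpa using ‹Y.Normal›.conj_mem r hr (m : G)⁻¹
        show (m : G) * x * (m : G)⁻¹ * r = r * ((m : G) * x * (m : G)⁻¹)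
        calc (m : G) * x * (m : G)⁻¹ * r = (m : G) * (x * ((m : G)⁻¹ * r * (m : G))) * (m : G)⁻¹ := by
              group
          _ = _ := by rw [hx3 _ hr']; group
    exact hmap ⟨_, hx, rfl⟩
  set C := (centralizer (R : Set G)).subgroupOf N with hC
  haveI hCn : C.Normal := ⟨fun c hc m => mem_centralizer_iff.2 fun r hr => by
    have hr' : (m : G)⁻¹ * r * (m : G) ∈ R := by
      simpa using (mem_normalizer_iff.1 (inv_mem m.2) r).1 hr
    show r * ((m : G) * c * (m : G)⁻¹) = (m : G) * c * (m : G)⁻¹ * r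
    calc r * ((m : G) * c * (m : G)⁻¹) = (m : G) * ((m : G)⁻¹ * r * (m : G) * c) * (m : G)⁻¹ := by
          group
      _ = _ := by
        rw [show (m : G)⁻¹ * r * (m : G) * (c : G) = (c : G) * ((m : G)⁻¹ * r * (m : G)) from
          mem_centralizer_iff.1 hc _ hr']
        group⟩
  have hCK : C ≤ K := fun c hc => mem_subgroupOf.2 (le_sup_left (b := R) ⟨c.2, fun r hr => by
    rw [show ⁅(c : G), r⁆ = 1 from
      commutatorElement_eq_one_iff_mul_comm.2 (mem_centralizer_iff.1 hc r hr).symm]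
    exact one_mem _, fun r hr => (mem_centralizer_iff.1 hc r (hY hr)).symm⟩)
  -- `K / C` is a `p`-group
  have hKT : K ≤ C ⊔ (T0 : Subgroup N) := by
    let q := QuotientGroup.mk' C
    have hK1p : IsPGroup p ((K1.subgroupOf N).map q) := by
      rintro ⟨_, x, hx, rfl⟩
      have hYp : IsPGroup p Y := S.isPGroup'.to_le (hb.le.trans (zj_le S))
      obtain ⟨a, ha⟩ := IsPGroup.iff_card.1 hYp
      refine ⟨a, Subtype.ext ?_⟩
      show (q x) ^ p ^ a = 1
      rw [← map_pow, QuotientGroup.mk'_apply, QuotientGroup.eq_one_iff, hC, mem_subgroupOf,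
        SubmonoidClass.coe_pow]
      refine mem_centralizer_iff.2 fun r hr => ?_
      obtain ⟨-, hx2, hx3⟩ := hx
      have hpw : ∀ j : ℕ, (x : G) ^ j * r * ((x : G) ^ j)⁻¹ = ⁅(x : G), r⁆ ^ j * r := by
        intro j
        induction j with
        | zero => simp
        | succ j ih =>
          have hc : (x : G) * ⁅(x : G), r⁆ ^ j = ⁅(x : G), r⁆ ^ j * (x : G) :=
            hx3 _ (pow_mem (hx2 r hr) j)
          calc (x : G) ^ (j + 1) * r * ((x : G) ^ (j + 1))⁻¹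
              = (x : G) * ((x : G) ^ j * r * ((x : G) ^ j)⁻¹) * (x : G)⁻¹ := by
                rw [pow_succ']; group
            _ = (x : G) * ⁅(x : G), r⁆ ^ j * r * (x : G)⁻¹ := by rw [ih]; group
            _ = ⁅(x : G), r⁆ ^ j * (⁅(x : G), r⁆ * r) := by rw [hc]; group
            _ = _ := by rw [pow_succ, mul_assoc]
      have h1 := hpw (p ^ a)
      rw [show ⁅(x : G), r⁆ ^ p ^ a = 1 from by
        rw [← ha]; exact congrArg Subtype.val (pow_card_eq_one' (x := (⟨_, hx2 r hr⟩ : Y))),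
        one_mul] at h1
      exact (mul_inv_eq_iff_eq_mul.1 h1).symm
    have hRp : IsPGroup p ((R.subgroupOf N).map q) :=
      ((S.isPGroup'.to_le hR).comap_subtype).map q
    haveI : ((R.subgroupOf N).map q).Normal := by
      haveI : (R.subgroupOf N).Normal := normal_subgroupOf_iff_le_normalizer le_normalizer |>.2 le_rfl
      exact Normal.map inferInstance q (QuotientGroup.mk'_surjective C)
    have hKp : IsPGroup p (K.map q) := by
      rw [hK, subgroupOf_sup hK1N le_normalizer, Subgroup.map_sup]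
      exact hK1p.to_sup_of_normal_right hRp
    haveI : (K.map q).Normal := Normal.map hKn q (QuotientGroup.mk'_surjective C)
    have hle := hKp.le_sylow_of_normal (T0.mapSurjective (f := q) (QuotientGroup.mk'_surjective C))
    intro x hx
    obtain ⟨t, ht, e⟩ := hle (mem_map_of_mem q hx)
    rw [sup_comm]
    refine Subgroup.mem_sup_of_normal_right.2 ⟨t, ht, t⁻¹ * x, ?_, mul_inv_cancel_left t x⟩
    rw [← QuotientGroup.eq]
    exact e
  set Qn := (T0 : Subgroup N) ⊓ K with hQn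
  refine ⟨Qn.map N.subtype, ?_, ?_, ?_, ?_, ?_, ?_⟩
  · intro r hr
    exact ⟨⟨r, le_normalizer hr⟩, ⟨⟨hR hr, le_normalizer hr⟩,
      mem_subgroupOf.2 (le_sup_right (a := K1) hr)⟩, rfl⟩
  · rintro _ ⟨q, hq, rfl⟩
    exact hq.1
  · exact ⟨⟨z, hzN⟩, ⟨⟨hzS, hzN⟩, mem_subgroupOf.2 (le_sup_left (b := R) hzK)⟩, rfl⟩
  · intro t ht
    refine mem_normalizer_iff_map_conj_eq.2 (eq_of_le_of_card_ge ?_
      (card_map_of_injective (MulAut.conj t).injective).ge)
    rintro _ ⟨_, ⟨q, hq, rfl⟩, rfl⟩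
    exact ⟨⟨t, ht.2⟩ * q * ⟨t, ht.2⟩⁻¹, mem_inf.2 ⟨mul_mem (mul_mem (show (⟨t, ht.2⟩ : N) ∈ (T0 : Subgroup N)
      from ht) hq.1) (inv_mem (show (⟨t, ht.2⟩ : N) ∈ (T0 : Subgroup N) from ht)),
      hKn.conj_mem q hq.2 _⟩, rfl⟩
  · intro w hw hRw
    rintro _ ⟨q, hq, rfl⟩
    refine (sup_le ?_ hRw : K1 ⊔ R ≤ CY Y w) (mem_subgroupOf.1 hq.2)
    exact fun x hx => mem_CY.2 (hx.2.1 w hw)
  · intro g hg
    obtain ⟨d, hd, m, hm, hdm⟩ := CfsgLib.PLocal.exists_mul_normalizer T0 K ⟨g, hg⟩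
    obtain ⟨c, hc, t, ht, hct⟩ := Subgroup.mem_sup_of_normal_left.1 (hKT hd)
    have htQ : t ∈ Qn := mem_inf.2 ⟨ht, by
      have : t = c⁻¹ * d := by rw [← hct]; group
      rw [this]; exact mul_mem (inv_mem (hCK hc)) hd⟩
    refine ⟨c, hc, (t : G) * (m : G), ?_, mul_mem t.2 m.2, ?_⟩
    · exact mul_mem (le_normalizer ⟨t, htQ, rfl⟩)
        (le_normalizer_map N.subtype ⟨m, hm, rfl⟩)
    · have h1 := congrArg Subtype.val hdm
      have h2 : (c : G) * (t : G) = (d : G) := congrArg Subtype.val hct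
      simp only [Subgroup.coe_mul] at h1
      rw [h1, ← h2, mul_assoc]

/-- Pieces of Alperin chains with a large source are realised. -/
theorem Base.piece (hb : Base S Y z) {M : ℕ}
    (hmax : ∀ Q, Bad S Y z Q → Nat.card ↥((S : Subgroup G) ⊓ normalizer (Q : Set G)) ≤ M)
    {R : Subgroup G} (hR : R ≤ (S : Subgroup G)) (hY : Y ≤ R)
    (hT : ¬ p ∣ ((S : Subgroup G) ⊓ normalizer (R : Set G)).relIndex (normalizer (R : Set G)))
    (hM : M ≤ Nat.card R) {g : G} (hg : g ∈ normalizer (R : Set G)) :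
    Realised (normalizer (centerThompsonAOf (S : Subgroup G) : Set G)) R g := by
  rcases hR.eq_or_lt with rfl | hlt
  · exact Realised.of_mem (normalizer_sylow_le S hg)
  obtain ⟨Q, hRQ, hQS, hzQ, hTQ, -, hfac⟩ := hb.enlarge hR hY hT
  obtain ⟨c, hc, n, hnQ, hnR, rfl⟩ := hfac g hg
  by_contra hno
  have hbad : Bad S Y z Q := by
    refine ⟨hY.trans hRQ, hQS.trans inf_le_left, 1, one_mem _, by simpa using hzQ,
      fun q hq => by simpa using hb.central q (hQS hq).1, n, hnQ, R,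
      fun a ha => ⟨hR ha, le_normalizer (hRQ ha), by simpa using hb.central a (hR ha)⟩,
      fun a ha => ?_, fun ⟨h, hh, he⟩ => hno ⟨h, hh, fun a ha => ?_⟩⟩
    · have hmem : n * a * n⁻¹ ∈ R := (mem_normalizer_iff.1 hnR a).1 ha
      exact ⟨hR hmem, by simpa using hb.central _ (hR hmem)⟩
    · have hmem : n * a * n⁻¹ ∈ R := (mem_normalizer_iff.1 hnR a).1 ha
      rw [he a ha]
      calc n * a * n⁻¹ = c * (n * a * n⁻¹) * c⁻¹ := by
            rw [← mem_centralizer_iff.1 hc _ hmem, mul_inv_cancel_right]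
        _ = _ := by group
  have h1 := hmax Q hbad
  have h2 : Nat.card R < Nat.card ↥((S : Subgroup G) ⊓ normalizer (R : Set G)) :=
    CfsgLib.Transfer.card_lt_card_of_lt (CfsgLib.Transfer.lt_inf_normalizer S.isPGroup' hlt)
  have h3 : Nat.card ↥((S : Subgroup G) ⊓ normalizer (R : Set G)) ≤
      Nat.card ↥((S : Subgroup G) ⊓ normalizer (Q : Set G)) :=
    card_le_of_le (le_inf inf_le_left hTQ)
  omega

/-- Conjugations with a large source inside `S` are realised. -/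
theorem Base.large (hb : Base S Y z) {M : ℕ}
    (hmax : ∀ Q, Bad S Y z Q → Nat.card ↥((S : Subgroup G) ⊓ normalizer (Q : Set G)) ≤ M)
    {A : Subgroup G} (hA : A ≤ (S : Subgroup G)) (hM : M ≤ Nat.card A) {g : G}
    (hg : ∀ a ∈ A, g * a * g⁻¹ ∈ (S : Subgroup G)) :
    Realised (normalizer (centerThompsonAOf (S : Subgroup G) : Set G)) A g := by
  have key : ∀ (B : Set G) (k : G), CfsgLib.Transfer.FusionChain S B k → ∀ A' : Subgroup G,
      B = (A' : Set G) → M ≤ Nat.card A' →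
        Realised (normalizer (centerThompsonAOf (S : Subgroup G) : Set G)) B k⁻¹ := by
    intro B k h
    induction h with
    | nil B => exact fun _ _ _ => Realised.of_mem (by simp)
    | @cons B k Q x hxN hP hQ hBsub _ ih =>
      intro A' hAB hMA
      have hYS : ∀ P : Sylow p G, Y ≤ (P : Subgroup G) := fun P =>
        (S.isPGroup'.to_le (hb.le.trans (zj_le S))).le_sylow_of_normal P
      have hp1 := hb.piece hmax (inf_le_left : (S : Subgroup G) ⊓ (Q : Subgroup G) ≤ _)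
        (le_inf (hYS S) (hYS Q)) hP
        (hMA.trans (card_le_of_le fun a ha => hBsub (by rw [hAB]; exact ha))) (inv_mem hxN)
      rw [mul_inv_rev]
      refine (hp1.mono hBsub).comp ?_
      have himg : (fun a => x⁻¹ * a * x⁻¹⁻¹) '' B = (fun a => x⁻¹ * a * x) '' B := by
        simp only [inv_inv]
      rw [himg]
      refine ih (A'.map (MulAut.conj x⁻¹).toMonoidHom) ?_
        (by rwa [card_map_of_injective (MulAut.conj x⁻¹).injective])
      subst hAB
      ext w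
      simp
  have := key _ _ (CfsgLib.Transfer.fusionChain S (A := (A : Set G)) (g := g⁻¹) hA
    (fun a ha => by rw [inv_inv]; exact hg a ha)) A rfl hM
  rwa [inv_inv] at this

/-- Passing a bad pair to a larger subgroup. -/
theorem Base.descend (hb : Base S Y z) {W : Subgroup G} {n : G}
    (hn : n ∈ normalizer (centerThompsonAOf (S : Subgroup G) : Set G))
    (hYW : Y ≤ W) (hwW : n * z * n⁻¹ ∈ W)
    (hT : ¬ p ∣ ((S : Subgroup G) ⊓ normalizer (W : Set G)).relIndex (normalizer (W : Set G)))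
    {g : G} (hg : g ∈ normalizer (W : Set G)) {A : Set G}
    (hA : ∀ a ∈ A, a ∈ (S : Subgroup G) ∧ a ∈ normalizer (W : Set G) ∧ a ∈ CY Y (n * z * n⁻¹))
    (hgA : ∀ a ∈ A, g * a * g⁻¹ ∈ (S : Subgroup G) ∧ g * a * g⁻¹ ∈ CY Y (n * z * n⁻¹))
    (hno : ¬ Realised (normalizer (centerThompsonAOf (S : Subgroup G) : Set G)) A g)
    {Q C : Subgroup G} (hWQ : W ≤ Q) (hQT : Q ≤ (S : Subgroup G) ⊓ normalizer (W : Set G))
    (hTQ : (S : Subgroup G) ⊓ normalizer (W : Set G) ≤ normalizer (Q : Set G))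
    (hQw : Q ≤ CY Y (n * z * n⁻¹)) (hCw : C ≤ CY Y (n * z * n⁻¹))
    (hCN : C ≤ normalizer (W : Set G)) (hNC : normalizer (W : Set G) ≤ normalizer (C : Set G))
    (hfac : ∃ c ∈ C, ∃ m, m ∈ normalizer (Q : Set G) ∧ m ∈ normalizer (W : Set G) ∧ g = c * m) :
    Bad S Y z Q := by
  classical
  set N := normalizer (W : Set G) with hN
  set T := (S : Subgroup G) ⊓ N with hTdef
  obtain ⟨c, hc, m, hmQ, hmW, rfl⟩ := hfac
  set M := (C ⊔ T) ⊓ normalizer (Q : Set G) with hMdef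
  have hTM : T ≤ M := le_inf le_sup_right hTQ
  have hMN : M ≤ N := inf_le_left.trans (sup_le hCN inf_le_right)
  have hTC : T ≤ normalizer (C : Set G) := inf_le_right.trans hNC
  have hcw := hCw hc
  set P0 := closure ((fun a => m * a * m⁻¹) '' A) with hP0
  have hP0M : P0 ≤ M := by
    rw [hP0, closure_le]
    rintro _ ⟨a, ha, rfl⟩
    have haT : a ∈ T := ⟨(hA a ha).1, (hA a ha).2.1⟩
    refine mem_inf.2 ⟨?_, mul_mem (mul_mem hmQ (hTQ haT)) (inv_mem hmQ)⟩
    have hb' : c * m * a * (c * m)⁻¹ ∈ T :=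
      mem_inf.2 ⟨(hgA a ha).1, mul_mem (mul_mem hg (hA a ha).2.1) (inv_mem hg)⟩
    show m * a * m⁻¹ ∈ C ⊔ T
    rw [show m * a * m⁻¹ = c⁻¹ * (c * m * a * (c * m)⁻¹) * c by group]
    exact mul_mem (mul_mem (le_sup_left (b := T) (inv_mem hc)) (le_sup_right (a := C) hb'))
      (le_sup_left (b := T) hc)
  have hP0p : IsPGroup p P0 := by
    have : P0 = (closure A).map (MulAut.conj m).toMonoidHom := by
      rw [hP0, MonoidHom.map_closure]; rfl
    rw [this]
    exact (S.isPGroup'.to_le ((closure_le _).2 fun a ha => (hA a ha).1)).map _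
  let TM : Sylow p M := ((S.isPGroup'.to_le (inf_le_left : T ≤ _)).comap_subtype).toSylow (by
    intro hd
    refine hT (hd.trans ?_)
    show T.relIndex M ∣ T.relIndex N
    rw [← relIndex_mul_relIndex T M N hTM hMN]
    exact dvd_mul_right _ _)
  obtain ⟨P1, hP1⟩ := (hP0p.comap_of_injective M.subtype M.subtype_injective).exists_le_sylow
  obtain ⟨k, hk⟩ := MulAction.exists_smul_eq M P1 TM
  have hkmem : (k : G) ∈ C ⊔ T := k.2.1
  obtain ⟨t, ht, c0, hc0, htc⟩ : ∃ t ∈ T, ∃ c0 ∈ C, t * c0 = (k : G) := by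
    rw [sup_comm, ← SetLike.mem_coe, coe_mul_of_left_le_normalizer_right T C hTC] at hkmem
    obtain ⟨t, ht, c0, hc0, e⟩ := Set.mem_mul.1 hkmem
    exact ⟨t, ht, c0, hc0, e⟩
  have hc0Q : c0 ∈ normalizer (Q : Set G) := by
    have : c0 = t⁻¹ * (k : G) := by rw [← htc]; group
    rw [this]
    exact mul_mem (inv_mem (hTQ ht)) k.2.2
  have hmove : ∀ a ∈ A, c0 * m * a * (c0 * m)⁻¹ ∈ T := by
    intro a ha
    have hmem : m * a * m⁻¹ ∈ P0 := subset_closure ⟨a, ha, rfl⟩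
    have h1 : k * ⟨_, hP0M hmem⟩ * k⁻¹ ∈ (TM : Subgroup M) := by
      rw [← hk]
      refine CfsgLib.Transfer.mem_coe_smul_sylow_iff.2 ?_
      rw [show k⁻¹ * (k * (⟨_, hP0M hmem⟩ : M) * k⁻¹) * k = ⟨_, hP0M hmem⟩ by group]
      exact hP1 hmem
    have h2 : (k : G) * (m * a * m⁻¹) * (k : G)⁻¹ ∈ T := h1
    have h3 := mul_mem (mul_mem (inv_mem ht) h2) ht
    convert h3 using 1
    rw [← htc]
    group
  have hAw : ∀ a ∈ A, c0 * m * a * (c0 * m)⁻¹ ∈ CY Y (n * z * n⁻¹) := by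
    intro a ha
    rw [show c0 * m * a * (c0 * m)⁻¹ = (c0 * c⁻¹) * (c * m * a * (c * m)⁻¹) * (c0 * c⁻¹)⁻¹ by group]
    exact mul_mem (mul_mem (mul_mem (hCw hc0) (inv_mem hcw)) (hgA a ha).2)
      (inv_mem (mul_mem (hCw hc0) (inv_mem hcw)))
  refine ⟨hYW.trans hWQ, hQT.trans inf_le_left, n, hn, hWQ hwW, hQw, c0 * m, mul_mem hc0Q hmQ, A,
    fun a ha => ⟨(hA a ha).1, hTQ ⟨(hA a ha).1, (hA a ha).2.1⟩, (hA a ha).2.2⟩,
    fun a ha => ⟨(hmove a ha).1, hAw a ha⟩, fun h => hno ?_⟩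
  have h2 := hb.wGood hn (mul_mem hcw (inv_mem (hCw hc0)))
    (A := (fun a => c0 * m * a * (c0 * m)⁻¹) '' A)
    (by rintro _ ⟨a, ha, rfl⟩; exact (hmove a ha).1)
    (by rintro _ ⟨a, ha, rfl⟩; exact hAw a ha)
    (by
      rintro _ ⟨a, ha, rfl⟩
      convert (hgA a ha).1 using 1
      group)
  have h3 := h.comp h2
  rwa [show c * c0⁻¹ * (c0 * m) = c * m by group] at h3

/-- The lexicographic measure. -/
noncomputable def mu (S : Sylow p G) (W : Subgroup G) : ℕ :=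
  Nat.card ↥((S : Subgroup G) ⊓ normalizer (W : Set G)) * (Nat.card G + 1) + Nat.card W

theorem mu_lt_of_card_lt {S : Sylow p G} {W Q : Subgroup G}
    (h : Nat.card ↥((S : Subgroup G) ⊓ normalizer (W : Set G)) <
      Nat.card ↥((S : Subgroup G) ⊓ normalizer (Q : Set G))) : mu S W < mu S Q := by
  have h1 := Subgroup.card_le_card_group W
  have h2 := Nat.mul_le_mul_right (Nat.card G + 1) (Nat.succ_le_of_lt h)
  rw [mu, mu, Nat.succ_mul] at *
  omega

theorem mu_lt_of_lt {S : Sylow p G} {W Q : Subgroup G} (hWQ : W < Q)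
    (h : (S : Subgroup G) ⊓ normalizer (W : Set G) ≤ normalizer (Q : Set G)) : mu S W < mu S Q := by
  have h1 := Nat.mul_le_mul_right (Nat.card G + 1)
    (card_le_of_le (le_inf inf_le_left h : (S : Subgroup G) ⊓ normalizer (W : Set G) ≤
      (S : Subgroup G) ⊓ normalizer (Q : Set G)))
  have h2 := CfsgLib.Transfer.card_lt_card_of_lt hWQ
  rw [mu, mu]
  omega

/-- The configuration reached by maximality. -/
structure Config (S : Sylow p G) (Y : Subgroup G) [Y.Normal] (z : G) where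
  W : Subgroup G
  g : G
  A : Set G
  le_W : Y ≤ W
  W_le : W ≤ (S : Subgroup G)
  z_mem : z ∈ W
  sylow : ¬ p ∣ ((S : Subgroup G) ⊓ normalizer (W : Set G)).relIndex (normalizer (W : Set G))
  g_mem : g ∈ normalizer (W : Set G)
  A_mem : ∀ a ∈ A, a ∈ (S : Subgroup G) ∧ a ∈ normalizer (W : Set G)
  gA_mem : ∀ a ∈ A, g * a * g⁻¹ ∈ (S : Subgroup G)
  not_real : ¬ Realised (normalizer (centerThompsonAOf (S : Subgroup G) : Set G)) A g
  max : ∀ Q, Bad S Y z Q → mu S Q ≤ mu S W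

theorem Base.exists_config (hb : Base S Y z) {A0 : Set G} {g0 : G}
    (hA0 : A0 ⊆ (S : Subgroup G)) (hg0 : ∀ a ∈ A0, g0 * a * g0⁻¹ ∈ (S : Subgroup G))
    (hno0 : ¬ Realised (normalizer (centerThompsonAOf (S : Subgroup G) : Set G)) A0 g0) :
    Nonempty (Config S Y z) := by
  classical
  set H := normalizer (centerThompsonAOf (S : Subgroup G) : Set G) with hH
  have hne : ∃ W, Bad S Y z W := by
    by_contra hnone
    push Not at hnone
    refine hno0 (Realised.mono (hb.large (M := 0) (fun Q hQ => absurd hQ (hnone Q))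
      (A := closure A0) ((closure_le _).2 hA0) (Nat.zero_le _) ?_) subset_closure)
    intro a ha
    have hle : (closure A0).map (MulAut.conj g0).toMonoidHom ≤ (S : Subgroup G) := by
      rw [MonoidHom.map_closure, closure_le]
      rintro _ ⟨a, ha, rfl⟩
      exact hg0 a ha
    exact hle ⟨a, ha, rfl⟩
  obtain ⟨W, hW, hmax⟩ := Set.exists_max_image {W | Bad S Y z W} (mu S) (Set.toFinite _) hne
  obtain ⟨hYW, hWS, n, hn, hwW, hWw, g, hg, A, hA, hgA, hno⟩ := hW
  set N := normalizer (W : Set G) with hN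
  set T := (S : Subgroup G) ⊓ N with hT
  have hcard : ∀ Q, Bad S Y z Q →
      Nat.card ↥((S : Subgroup G) ⊓ normalizer (Q : Set G)) ≤ Nat.card T := by
    intro Q hQ
    by_contra hlt
    have := hmax Q hQ
    have := mu_lt_of_card_lt (W := W) (Q := Q) (not_le.1 hlt)
    omega
  have hsyl : ¬ p ∣ T.relIndex N := by
    obtain ⟨T1, hT1⟩ :=
      ((S.isPGroup'.to_le (inf_le_left : T ≤ _)).comap_subtype (K := N)).exists_le_sylow
    rcases hT1.eq_or_lt with heq | hlt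
    · show ¬ p ∣ (T.comap N.subtype).index
      rw [heq]
      exact T1.not_dvd_index
    exfalso
    obtain ⟨S', hS'⟩ := (T1.isPGroup'.map N.subtype).exists_le_sylow
    obtain ⟨k, hk⟩ := MulAction.exists_smul_eq G S' S
    have hkS : ∀ x ∈ (S' : Subgroup G), k * x * k⁻¹ ∈ (S : Subgroup G) := fun x hx => by
      rw [← hk]
      refine CfsgLib.Transfer.mem_coe_smul_sylow_iff.2 ?_
      rwa [show k⁻¹ * (k * x * k⁻¹) * k = x by group]
    have hTS' : T ≤ (S' : Subgroup G) := fun x hx => hS' ⟨⟨x, hx.2⟩, hT1 hx, rfl⟩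
    obtain ⟨n0, hn0, he0⟩ := hb.large hcard (inf_le_left : T ≤ _) le_rfl
      (g := k) fun a ha => hkS a (hTS' ha)
    have hWT : W ≤ T := le_inf hWS le_normalizer
    have hw0 : k * (n * z * n⁻¹) * k⁻¹ = (n0 * n) * z * (n0 * n)⁻¹ := by
      rw [← he0 _ (hWT hwW)]; group
    set W' := W.map (MulAut.conj k).toMonoidHom with hW'
    have hmemW : ∀ x, k * x * k⁻¹ ∈ W' ↔ x ∈ W := fun x =>
      Subgroup.mem_map_iff_mem (f := (MulAut.conj k).toMonoidHom) (MulAut.conj k).injective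
    have hNW : ∀ x ∈ N, k * x * k⁻¹ ∈ normalizer (W' : Set G) := by
      intro x hx
      refine mem_normalizer_iff_map_conj_eq.2 (eq_of_le_of_card_ge ?_
        (card_map_of_injective (MulAut.conj _).injective).ge)
      rintro _ ⟨_, ⟨y, hy, rfl⟩, rfl⟩
      exact ⟨x * y * x⁻¹, (mem_normalizer_iff.1 hx y).1 hy, by simp [mul_assoc]⟩
    have hbad : Bad S Y z W' := by
      refine ⟨fun y hy => ?_, ?_, n0 * n, mul_mem hn0 hn, ?_, ?_, k * g * k⁻¹, hNW g hg,
        (fun a => k * a * k⁻¹) '' A, ?_, ?_, ?_⟩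
      · have := (hmemW (k⁻¹ * y * k)).2 (hYW (by simpa using ‹Y.Normal›.conj_mem y hy k⁻¹))
        rwa [show k * (k⁻¹ * y * k) * k⁻¹ = y by group] at this
      · rintro _ ⟨x, hx, rfl⟩
        exact hkS x (hTS' (hWT hx))
      · rw [← hw0]; exact (hmemW _).2 hwW
      · rintro _ ⟨x, hx, rfl⟩
        rw [← hw0]
        exact conj_mem_CY k (hWw hx)
      · rintro _ ⟨a, ha, rfl⟩
        exact ⟨hkS a (hTS' ⟨(hA a ha).1, (hA a ha).2.1⟩), hNW a (hA a ha).2.1,
          hw0 ▸ conj_mem_CY k (hA a ha).2.2⟩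
      · rintro _ ⟨a, ha, rfl⟩
        have hgaT : g * a * g⁻¹ ∈ T :=
          mem_inf.2 ⟨(hgA a ha).1, mul_mem (mul_mem hg (hA a ha).2.1) (inv_mem hg)⟩
        have e : k * g * k⁻¹ * (k * a * k⁻¹) * (k * g * k⁻¹)⁻¹ = k * (g * a * g⁻¹) * k⁻¹ := by
          group
        rw [e]
        exact ⟨hkS _ (hTS' hgaT), hw0 ▸ conj_mem_CY k (hgA a ha).2⟩
      · rintro ⟨h, hh, he⟩
        refine hno ⟨n0⁻¹ * h * n0, mul_mem (mul_mem (inv_mem hn0) hh) hn0, fun a ha => ?_⟩
        have hgaT : g * a * g⁻¹ ∈ T :=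
          mem_inf.2 ⟨(hgA a ha).1, mul_mem (mul_mem hg (hA a ha).2.1) (inv_mem hg)⟩
        have h1 := he _ ⟨a, ha, rfl⟩
        calc n0⁻¹ * h * n0 * a * (n0⁻¹ * h * n0)⁻¹
            = n0⁻¹ * (h * (n0 * a * n0⁻¹) * h⁻¹) * n0 := by group
          _ = n0⁻¹ * (k * (g * a * g⁻¹) * k⁻¹) * n0 := by
              rw [he0 a ⟨(hA a ha).1, (hA a ha).2.1⟩, h1]; group
          _ = g * a * g⁻¹ := by rw [← he0 _ hgaT]; group
    refine absurd (hmax W' hbad) (not_le.2 (mu_lt_of_card_lt ?_))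
    have hle : ((T1 : Subgroup N).map N.subtype).map (MulAut.conj k).toMonoidHom ≤
        (S : Subgroup G) ⊓ normalizer (W' : Set G) := by
      rintro _ ⟨_, ⟨x, hx, rfl⟩, rfl⟩
      exact ⟨hkS _ (hS' ⟨x, hx, rfl⟩), hNW _ x.2⟩
    refine lt_of_lt_of_le ?_ (card_le_of_le hle)
    rw [card_map_of_injective (MulAut.conj k).injective, card_map_of_injective N.subtype_injective]
    calc Nat.card ↥((S : Subgroup G) ⊓ normalizer (W : Set G)) = Nat.card (T.subgroupOf N) :=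
          (Nat.card_congr (subgroupOfEquivOfLe (inf_le_right : T ≤ N)).toEquiv).symm
      _ < _ := CfsgLib.Transfer.card_lt_card_of_lt hlt
  obtain ⟨Q, hWQ, hQT, hzQ, hTQ, hQw, hfac⟩ := hb.enlarge hWS hYW hsyl
  have hzW : z ∈ W := by
    by_contra hz
    have hlt : W < Q := lt_of_le_of_ne hWQ fun h => hz (h ▸ hzQ)
    refine absurd (hmax Q ?_) (not_le.2 (mu_lt_of_lt hlt hTQ))
    refine hb.descend hn hYW hwW hsyl hg hA hgA hno hWQ hQT hTQ (hQw _ hwW hWw)
      (C := centralizer (W : Set G) ⊓ N) ?_ inf_le_right ?_ ?_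
    · rintro c ⟨hc, -⟩
      rw [mem_CY, commutatorElement_eq_one_iff_mul_comm.2 (mem_centralizer_iff.1 hc _ hwW).symm]
      exact one_mem _
    · refine fun m hm => mem_normalizer_iff_map_conj_eq.2 (eq_of_le_of_card_ge ?_
        (card_map_of_injective (MulAut.conj m).injective).ge)
      rintro _ ⟨c, ⟨hc, hcN⟩, rfl⟩
      refine mem_inf.2 ⟨mem_centralizer_iff.2 fun r hr => ?_, mul_mem (mul_mem hm hcN) (inv_mem hm)⟩
      have hr' : m⁻¹ * r * m ∈ W := by simpa using (mem_normalizer_iff.1 (inv_mem hm) r).1 hr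
      show r * (m * c * m⁻¹) = m * c * m⁻¹ * r
      calc r * (m * c * m⁻¹) = m * (m⁻¹ * r * m * c) * m⁻¹ := by group
        _ = _ := by rw [mem_centralizer_iff.1 hc _ hr']; group
    · obtain ⟨c, hc, m, hmQ, hmW, e⟩ := hfac g hg
      refine ⟨c, mem_inf.2 ⟨hc, ?_⟩, m, hmQ, hmW, e⟩
      have : c = g * m⁻¹ := by rw [e]; group
      rw [this]; exact mul_mem hg (inv_mem hmW)
  exact ⟨⟨W, g, A, hYW, hWS, hzW, hsyl, hg, fun a ha => ⟨(hA a ha).1, (hA a ha).2.1⟩,
    fun a ha => (hgA a ha).1, hno, hmax⟩⟩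

end CfsgLib.FpFailure
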